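import Groth.Agent.BlowUpLib.Props2
import Mathlib.AlgebraicGeometry.ValuativeCriterion
import Mathlib.RingTheory.FiniteType
import Mathlib.RingTheory.Valuation.ValuationRing

/-!
# Blow-ups in finite type centres are proper
-/

universe u

open CategoryTheory CategoryTheory.Limits AlgebraicGeometry TopologicalSpace
open scoped nonZeroDivisors

namespace Groth.Agent.BlowUpLib

open Groth.Agent.ModPairBasic

section algebra

variable {A : Type u} [CommRing A] (I : Ideal A) (a : A)

/-- The element `x / a` of the affine blow-up algebra. -/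
noncomputable def frac (x : A) (hx : x ∈ I) : BlowUp.affineAlgebra A I a :=
  ⟨IsLocalization.mk' (Localization.Away a) x ⟨a, Submonoid.mem_powers a⟩, Algebra.subset_adjoin ⟨x, hx, rfl⟩⟩

lemma self_mul_frac (x : A) (hx : x ∈ I) :
    algebraMap A (BlowUp.affineAlgebra A I a) a * frac I a x hx = algebraMap A _ x :=
  Subtype.ext (IsLocalization.mk'_spec' (Localization.Away a) x (⟨a, Submonoid.mem_powers a⟩ : Submonoid.powers a))

lemma frac_self (ha : a ∈ I) : frac I a a ha = 1 := Subtype.ext (IsLocalization.mk'_self _ _)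

lemma affineAlgebra_eq_adjoin (T : Set A) (hT : I = Ideal.span T) :
    BlowUp.affineAlgebra A I a = Algebra.adjoin A
      {q | ∃ x ∈ T, q = IsLocalization.mk' (Localization.Away a) x ⟨a, Submonoid.mem_powers a⟩} := by
  refine le_antisymm (Algebra.adjoin_le ?_) (Algebra.adjoin_mono ?_)
  · rintro _ ⟨x, hx, rfl⟩
    rw [hT] at hx
    induction hx using Submodule.span_induction with
    | mem x hx => exact Algebra.subset_adjoin ⟨x, hx, rfl⟩
    | zero => rw [IsLocalization.mk'_zero]; exact Subalgebra.zero_mem _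
    | add x y _ _ hx hy =>
      rw [IsLocalization.mk'_eq_mul_mk'_one, map_add, add_mul, ← IsLocalization.mk'_eq_mul_mk'_one,
        ← IsLocalization.mk'_eq_mul_mk'_one]
      exact Subalgebra.add_mem _ hx hy
    | smul c x _ hx =>
      rw [smul_eq_mul, IsLocalization.mk'_eq_mul_mk'_one, map_mul, mul_assoc, ← IsLocalization.mk'_eq_mul_mk'_one]
      exact Subalgebra.mul_mem _ (Subalgebra.algebraMap_mem _ c) hx
  · rintro _ ⟨x, hx, rfl⟩
    exact ⟨x, hT ▸ Ideal.subset_span hx, rfl⟩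

lemma fg_affineAlgebra (hI : I.FG) : Algebra.FiniteType A (BlowUp.affineAlgebra A I a) := by
  classical
  obtain ⟨s, hs⟩ := hI
  refine (Subalgebra.fg_iff_finiteType _).mp ?_
  rw [affineAlgebra_eq_adjoin I a (s : Set A) hs.symm]
  have : {q : Localization.Away a | ∃ x ∈ (s : Set A), q = IsLocalization.mk' (Localization.Away a) x
      ⟨a, Submonoid.mem_powers a⟩} = ↑(s.image fun x => IsLocalization.mk' (Localization.Away a) x
      (⟨a, Submonoid.mem_powers a⟩ : Submonoid.powers a)) := by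
    ext q; simp [eq_comm]
  rw [this]
  exact Subalgebra.fg_adjoin_finset _

/-- A property stable under ring operations that holds on `A` and on the `t / a` holds everywhere. -/
lemma affineAlgebra_induction (T : Set A) (hT : I = Ideal.span T) {B : Type u} [CommRing B] (S : Subring B)
    (φ : BlowUp.affineAlgebra A I a →+* B) (h₀ : ∀ x, φ (algebraMap A _ x) ∈ S)
    (h₁ : ∀ (t : A) (ht : t ∈ T), φ (frac I a t (hT ▸ Ideal.subset_span ht)) ∈ S) (c : BlowUp.affineAlgebra A I a) :
    φ c ∈ S := by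
  obtain ⟨y, hy⟩ := c
  have hy' := hy
  rw [affineAlgebra_eq_adjoin I a T hT] at hy'
  induction hy' using Algebra.adjoin_induction with
  | mem q hq =>
    obtain ⟨t, ht, rfl⟩ := hq
    exact h₁ t ht
  | algebraMap r => exact h₀ r
  | add p q hp hq ihp ihq =>
    rw [← affineAlgebra_eq_adjoin I a T hT] at hp hq
    have := S.add_mem (ihp hp) (ihq hq)
    rwa [← map_add] at this
  | mul p q hp hq ihp ihq =>
    rw [← affineAlgebra_eq_adjoin I a T hT] at hp hq
    have := S.mul_mem (ihp hp) (ihq hq)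
    rwa [← map_mul] at this

end algebra

variable {X Y : Scheme.{u}} {Z : X.IdealSheafData}

lemma appLE_specMap (V : X.affineOpens) {R : CommRingCat.{u}} (φ : Γ(X, V.1) ⟶ R) (T : (Spec R).Opens)
    (h : T ≤ (Spec.map φ ≫ V.2.fromSpec) ⁻¹ᵁ V.1) :
    (Spec.map φ ≫ V.2.fromSpec).appLE V.1 T h =
      φ ≫ (Scheme.ΓSpecIso R).inv ≫ (Spec R).presheaf.map (homOfLE le_top).op := by
  have hle : (⊤ : (Spec R).Opens) ≤ (Spec.map φ ≫ V.2.fromSpec) ⁻¹ᵁ V.1 := fun y _ => by
    show (Spec.map φ ≫ V.2.fromSpec) y ∈ V.1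
    rw [Scheme.Hom.comp_apply]
    exact V.2.range_fromSpec.le ⟨_, rfl⟩
  have e : (Spec.map φ ≫ V.2.fromSpec).appLE V.1 ⊤ hle = φ ≫ (Scheme.ΓSpecIso R).inv := by
    apply Spec.map_injective
    have h1 := IsAffineOpen.SpecMap_appLE_fromSpec (Spec.map φ ≫ V.2.fromSpec) V.2
      (isAffineOpen_top (Spec R)) hle
    rw [IsAffineOpen.fromSpec_top, Scheme.isoSpec_Spec_inv] at h1
    have := V.2.isOpenImmersion_fromSpec
    refine (cancel_mono V.2.fromSpec).mp ?_
    rw [Spec.map_comp, Category.assoc]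
    exact h1
  rw [← Category.assoc, ← e, Scheme.Hom.appLE_map]

/-- The chart with the same affine open and another section. -/
abbrev Idx.withSec (i : Idx Z) (t : Γ(X, i.V.1)) (ht : t ∈ Z.ideal i.V) : Idx Z := ⟨i.V, t, ht⟩

/-- The coordinate `t / a`. -/
noncomputable abbrev Idx.coord (i : Idx Z) (x : Γ(X, i.V.1)) (hx : x ∈ Z.ideal i.V) : i.alg :=
  frac (Z.ideal i.V) i.a x hx

section change

variable (i : Idx Z) (t : Γ(X, i.V.1)) (ht : t ∈ Z.ideal i.V)

/-- `C[1/(t/a)]`. -/
abbrev Idx.locRing : Type u := Localization.Away (i.coord t ht)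

noncomputable abbrev Idx.locHom : CommRingCat.of i.alg ⟶ CommRingCat.of (i.locRing t ht) :=
  CommRingCat.ofHom (algebraMap i.alg (i.locRing t ht))

noncomputable abbrev Idx.locBase : Γ(X, i.V.1) ⟶ CommRingCat.of (i.locRing t ht) := i.algHom ≫ i.locHom t ht

lemma Idx.locBase_self_nzd : (i.locBase t ht).hom i.a ∈ (i.locRing t ht)⁰ :=
  IsLocalization.map_nonZeroDivisors_le (Submonoid.powers (i.coord t ht)) _ ⟨_, self_mem_nzd _ i.a, rfl⟩

lemma Idx.locBase_eq (x : Γ(X, i.V.1)) (hx : x ∈ Z.ideal i.V) :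
    (i.locBase t ht).hom x = (i.locBase t ht).hom i.a * algebraMap i.alg (i.locRing t ht) (i.coord x hx) := by
  show algebraMap i.alg (i.locRing t ht) (algebraMap _ i.alg x) =
    algebraMap i.alg (i.locRing t ht) (algebraMap _ i.alg i.a) * _
  rw [← map_mul, self_mul_frac]

lemma Idx.ov_eq : (i.ov (i.withSec t ht) : (Spec (CommRingCat.of i.alg)).Opens) =
    PrimeSpectrum.basicOpen (i.coord t ht) := by
  have hu : IsUnit (algebraMap i.alg (i.locRing t ht) (i.coord t ht)) :=
    IsLocalization.map_units _ (⟨_, Submonoid.mem_powers _⟩ : Submonoid.powers (i.coord t ht))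
  refine le_antisymm (fun c hc => ?_) ?_
  · obtain ⟨T, hT, hcT⟩ := mem_gen.mp hc
    have hTi : T ∈ genSet i.f i :=
      genSet_of_le (T := ⟨⊤, isAffineOpen_top _⟩) (top_mem_genSet i i.algHom (map_affineAlgebra _ i.a i.mem)) le_top
    obtain ⟨h1, e1⟩ := hT
    obtain ⟨h2, e2⟩ := hTi
    have hn := nzd_of_ec i.ec e2
    let ρ := (Scheme.ΓSpecIso (CommRingCat.of i.alg)).inv ≫
      (Spec (CommRingCat.of i.alg)).presheaf.map (homOfLE (le_top : T.1 ≤ ⊤)).op
    have ev : ∀ x, (i.f.appLE i.V.1 T.1 h2).hom x = ρ.hom (algebraMap _ i.alg x) := fun x =>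
      congrArg (fun m => m.hom x) (appLE_specMap i.V i.algHom T.1 h2)
    have hts : (i.f.appLE i.V.1 T.1 h2).hom t = (i.f.appLE i.V.1 T.1 h2).hom i.a * ρ.hom (i.coord t ht) := by
      rw [ev, ev, ← map_mul, self_mul_frac]
    obtain ⟨d, hd⟩ := Ideal.mem_span_singleton.mp ((e2.symm.trans e1).le (Ideal.mem_span_singleton_self _))
    have hu' : IsUnit (ρ.hom (i.coord t ht)) := by
      refine IsUnit.of_mul_eq_one d ((mul_cancel_left_mem_nonZeroDivisors hn).mp ?_)
      rw [← mul_assoc, ← hts, mul_one]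
      exact hd.symm
    have hcb : c ∈ (Spec (CommRingCat.of i.alg)).basicOpen (ρ.hom (i.coord t ht)) := by
      rw [Scheme.basicOpen_of_isUnit _ hu']; exact hcT
    rw [CommRingCat.hom_comp, RingHom.comp_apply, Scheme.basicOpen_res] at hcb
    exact (basicOpen_eq_of_affine (R := CommRingCat.of i.alg) (i.coord t ht)).le hcb.2
  · intro c hc
    let e : Spec (CommRingCat.of (i.locRing t ht)) ⟶ i.chart := Spec.map (i.locHom t ht)
    obtain ⟨d, rfl⟩ := (PrimeSpectrum.localization_away_comap_range (i.locRing t ht) (i.coord t ht)).ge hc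
    have : IsOpenImmersion e := IsOpenImmersion.of_isLocalization (i.coord t ht)
    have hecomp : e ≫ i.f = Spec.map (i.locBase t ht) ≫ i.V.2.fromSpec := by
      show Spec.map _ ≫ Spec.map _ ≫ _ = _
      rw [← Spec.map_comp_assoc]
    have hgen : Gen (e ≫ i.f) (i.withSec t ht) = ⊤ := by
      refine eq_top_iff.mpr fun q _ => mem_gen.mpr ⟨⟨⊤, isAffineOpen_top _⟩, ?_, trivial⟩
      rw [hecomp]
      refine top_mem_genSet (i.withSec t ht) (i.locBase t ht) ?_
      show (Z.ideal i.V).map (i.locBase t ht).hom = Ideal.span {(i.locBase t ht).hom t}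
      rw [i.locBase_eq t ht t ht, CommRingCat.hom_comp, ← Ideal.map_map]
      erw [map_affineAlgebra _ i.a i.mem]
      rw [Ideal.map_span, Set.image_singleton]
      exact (Ideal.span_singleton_mul_right_unit hu _).symm
    have h1 : d ∈ e ⁻¹ᵁ Gen i.f (i.withSec t ht) := by
      rw [gen_preimage i.ec e (ec_of_flat_comp i.ec e), hgen]; trivial
    exact h1

/-- Transition between charts. -/
lemma Idx.exists_trans : ∃ τ : (i.withSec t ht).alg →+* i.locRing t ht,
    Spec.map (CommRingCat.ofHom τ) ≫ (i.withSec t ht).ι = Spec.map (i.locHom t ht) ≫ i.ι ∧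
      τ.comp (algebraMap Γ(X, i.V.1) (i.withSec t ht).alg) = (i.locBase t ht).hom ∧
      ∀ x hx, τ ((i.withSec t ht).coord x hx) * algebraMap i.alg (i.locRing t ht) (i.coord t ht) =
        algebraMap i.alg (i.locRing t ht) (i.coord x hx) := by
  set j := i.withSec t ht
  let e : Spec (CommRingCat.of (i.locRing t ht)) ⟶ i.chart := Spec.map (i.locHom t ht)
  have hrange : Set.range e ⊆ Set.range (i.ov j).ι := by
    rw [Scheme.Opens.range_ι, i.ov_eq t ht]
    exact (PrimeSpectrum.localization_away_comap_range (i.locRing t ht) (i.coord t ht)).le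
  let k := IsOpenImmersion.lift (i.ov j).ι e hrange
  have hk : k ≫ (i.ov j).ι = e := IsOpenImmersion.lift_fac _ _ _
  obtain ⟨τ, hτ⟩ := Spec.map_surjective (k ≫ i.trans j)
  have hcomp : algebraMap Γ(X, i.V.1) j.alg = j.algHom.hom := rfl
  have hbase : τ.hom.comp (algebraMap Γ(X, i.V.1) j.alg) = (i.locBase t ht).hom := by
    have := i.V.2.isOpenImmersion_fromSpec
    have h1 : Spec.map (j.algHom ≫ τ) = Spec.map (i.locBase t ht) := by
      rw [← cancel_mono i.V.2.fromSpec, Spec.map_comp, Category.assoc, hτ, Category.assoc]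
      show k ≫ i.trans j ≫ j.f = _
      rw [i.trans_f, reassoc_of% hk]
      show Spec.map _ ≫ Spec.map _ ≫ _ = _
      rw [← Spec.map_comp_assoc]
    exact congrArg CommRingCat.Hom.hom (Spec.map_injective h1)
  refine ⟨τ.hom, ?_, hbase, fun x hx => ?_⟩
  · rw [CommRingCat.ofHom_hom, hτ, ← i.t_ι, Category.assoc, Category.assoc, i.glue, reassoc_of% hk]
  · refine (mul_cancel_left_mem_nonZeroDivisors (i.locBase_self_nzd t ht)).mp ?_
    rw [← i.locBase_eq t ht x hx, mul_left_comm, ← i.locBase_eq t ht t ht, mul_comm]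
    have hb : ∀ z, (i.locBase t ht).hom z = τ.hom (algebraMap Γ(X, i.V.1) j.alg z) := fun z =>
      (RingHom.congr_fun hbase z).symm
    rw [hb t, hb x, ← map_mul]
    exact congrArg τ.hom (self_mul_frac (Z.ideal i.V) t x hx)

/-- Moving a point of one chart into another chart. -/
lemma Idx.change_chart {B : Type u} [CommRing B] (ψ : i.alg →+* B) (hu : IsUnit (ψ (i.coord t ht))) :
    ∃ ψ' : (i.withSec t ht).alg →+* B,
      Spec.map (CommRingCat.ofHom ψ') ≫ (i.withSec t ht).ι = Spec.map (CommRingCat.ofHom ψ) ≫ i.ι ∧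
      ψ'.comp (algebraMap Γ(X, i.V.1) (i.withSec t ht).alg) = ψ.comp (algebraMap Γ(X, i.V.1) i.alg) ∧
      ∀ x hx, ψ' ((i.withSec t ht).coord x hx) * ψ (i.coord t ht) = ψ (i.coord x hx) := by
  obtain ⟨τ, h1, h2, h3⟩ := i.exists_trans t ht
  let L : i.locRing t ht →+* B := IsLocalization.Away.lift (i.coord t ht) hu
  have hL : ∀ c, L (algebraMap i.alg (i.locRing t ht) c) = ψ c := fun c => IsLocalization.Away.lift_eq _ hu c
  refine ⟨L.comp τ, ?_, ?_, fun x hx => ?_⟩
  · rw [CommRingCat.ofHom_comp, Spec.map_comp, Category.assoc, h1, ← Category.assoc, ← Spec.map_comp]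
    congr 2
    exact CommRingCat.hom_ext (RingHom.ext fun c => hL c)
  · rw [RingHom.comp_assoc, h2]
    exact RingHom.ext fun z => hL _
  · rw [← hL, RingHom.comp_apply, ← map_mul, h3, hL]

end change

lemma blowUp_locallyOfFiniteType (hZ : BlowUp.IsFiniteTypeIdeal Z) : LocallyOfFiniteType (blowUpπ Z) := by
  refine (IsZariskiLocalAtSource.iff_of_openCover (P := @LocallyOfFiniteType) (glueData Z).openCover).mpr fun (i : Idx Z) => ?_
  show LocallyOfFiniteType (i.ι ≫ blowUpπ Z)
  rw [i.ι_π]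
  have : LocallyOfFiniteType (Spec.map i.algHom) := by
    rw [HasRingHomProperty.Spec_iff (P := @LocallyOfFiniteType)]
    show (algebraMap Γ(X, i.V.1) i.alg).FiniteType
    rw [RingHom.finiteType_algebraMap]
    exact fg_affineAlgebra _ i.a (hZ i.V)
  have := i.V.2.isOpenImmersion_fromSpec
  show LocallyOfFiniteType (Spec.map i.algHom ≫ i.V.2.fromSpec)
  infer_instance

section affine

variable [IsAffine X] (hZ : BlowUp.IsFiniteTypeIdeal Z)

abbrev topOpen (X : Scheme.{u}) [IsAffine X] : X.affineOpens := ⟨⊤, isAffineOpen_top X⟩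

abbrev topIdx (t : Γ(X, ⊤)) (ht : t ∈ Z.ideal (topOpen X)) : Idx Z := ⟨topOpen X, t, ht⟩

lemma exists_top_chart (T : Finset Γ(X, ⊤)) (hT : Z.ideal (topOpen X) = Ideal.span (T : Set Γ(X, ⊤)))
    (y : blowUp Z) : ∃ (t : Γ(X, ⊤)) (ht : t ∈ T),
      y ∈ (topIdx t (hT ▸ Ideal.subset_span ht) : Idx Z).ι.opensRange := by
  obtain ⟨t, ht, hy⟩ := exists_gen_mem (blowUpπ_ec Z) (topOpen X) (T : Set Γ(X, ⊤)) hT (w := y) trivial
  exact ⟨t, ht, (topIdx t (hT ▸ Ideal.subset_span ht) : Idx Z).opensRange_ι ▸ hy⟩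

lemma isAffineOpen_range (i : Idx Z) : IsAffineOpen i.ι.opensRange := isAffineOpen_opensRange i.ι

include hZ in
lemma blowUp_qc : QuasiCompact (blowUpπ Z) := by
  obtain ⟨T, hT⟩ := hZ (topOpen X)
  rw [HasAffineProperty.iff_of_isAffine (P := @QuasiCompact)]
  refine isCompact_univ_iff.mp ?_
  have : (Set.univ : Set (blowUp Z)) = ⋃ t : (T : Set Γ(X, ⊤)),
      ((topIdx t.1 (hT ▸ Ideal.subset_span t.2) : Idx Z).ι.opensRange : Set (blowUp Z)) := by
    refine (Set.eq_univ_of_forall fun y => ?_).symm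
    obtain ⟨t, ht, hy⟩ := exists_top_chart T hT.symm y
    exact Set.mem_iUnion.mpr ⟨⟨t, ht⟩, hy⟩
  rw [this]
  exact isCompact_iUnion fun t => (isAffineOpen_range _).isCompact

include hZ in
lemma blowUp_qs : QuasiSeparated (blowUpπ Z) := by
  obtain ⟨T, hT⟩ := hZ (topOpen X)
  refine (quasiSeparated_iff_quasiSeparatedSpace _).mpr ?_
  let U : {t // t ∈ T} → (blowUp Z).Opens := fun t =>
    (topIdx t.1 (hT ▸ Ideal.subset_span t.2) : Idx Z).ι.opensRange
  refine Scheme.quasiSeparatedSpace_of_isOpenCover U ?_ (fun t => isAffineOpen_range _) fun s t => ?_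
  · refine eq_top_iff.mpr fun y _ => ?_
    obtain ⟨t, ht, hy⟩ := exists_top_chart T hT.symm y
    exact Opens.mem_iSup.mpr ⟨⟨t, ht⟩, hy⟩
  · let i : Idx Z := topIdx s.1 (hT ▸ Ideal.subset_span s.2)
    let j : Idx Z := i.withSec t.1 (hT ▸ Ideal.subset_span t.2)
    have h : (U s : Set (blowUp Z)) ∩ U t = i.ι '' (i.ov j : Set i.chart) := by
      show (i.ι.opensRange : Set (blowUp Z)) ∩ (j.ι.opensRange : Set (blowUp Z)) = _
      rw [j.opensRange_ι, Set.inter_comm]
      show _ ∩ Set.range i.ι = _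
      rw [← Set.image_preimage_eq_inter_range]
      congr 1
      show ((i.ι ⁻¹ᵁ Gen (blowUpπ Z) j : i.chart.Opens) : Set i.chart) = _
      rw [gen_preimage (blowUpπ_ec Z) i.ι (by rw [i.ι_π]; exact i.ec), i.ι_π]
    rw [h, i.ov_eq]
    exact (PrimeSpectrum.isCompact_basicOpen _).image i.ι.continuous

lemma exists_chart_of_valuationRing {R : Type u} [CommRing R] [IsLocalRing R]
    (l : Spec (CommRingCat.of R) ⟶ blowUp Z) (i : Idx Z) (h : l (IsLocalRing.closedPoint R) ∈ i.ι.opensRange) :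
    ∃ ψ : i.alg →+* R, l = Spec.map (CommRingCat.ofHom ψ) ≫ i.ι := by
  have hsub : Set.range l ⊆ Set.range i.ι := by
    rintro _ ⟨p, rfl⟩
    exact ((IsLocalRing.specializes_closedPoint p).map l.continuous).mem_open i.ι.opensRange.isOpen h
  obtain ⟨φ, hφ⟩ := Spec.map_surjective (IsOpenImmersion.lift i.ι l hsub)
  exact ⟨φ.hom, by rw [CommRingCat.ofHom_hom, hφ, IsOpenImmersion.lift_fac]⟩

lemma spec_hom_ext {i : Idx Z} {B : Type u} [CommRing B] {ψ₁ ψ₂ : i.alg →+* B}
    (h : Spec.map (CommRingCat.ofHom ψ₁) ≫ i.ι = Spec.map (CommRingCat.ofHom ψ₂) ≫ i.ι) : ψ₁ = ψ₂ :=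
  congrArg CommRingCat.Hom.hom (Spec.map_injective ((cancel_mono i.ι).mp h))

lemma valuative_uniqueness (T : Finset Γ(X, ⊤)) (hT : Z.ideal (topOpen X) = Ideal.span (T : Set Γ(X, ⊤))) :
    ValuativeCriterion.Uniqueness (blowUpπ Z) := by
  rintro ⟨R, K, i₁, i₂, ⟨w⟩⟩
  refine ⟨fun l₁ l₂ => CommSq.LiftStruct.ext ?_⟩
  obtain ⟨l₁, f₁, -⟩ := l₁
  obtain ⟨l₂, f₂, -⟩ := l₂
  show l₁ = l₂
  obtain ⟨s, hs, hs'⟩ := exists_top_chart T hT (l₁ (IsLocalRing.closedPoint R))
  obtain ⟨t, ht, ht'⟩ := exists_top_chart T hT (l₂ (IsLocalRing.closedPoint R))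
  set i : Idx Z := topIdx s (hT ▸ Ideal.subset_span hs) with hi
  have htmem : t ∈ Z.ideal i.V := hT ▸ Ideal.subset_span ht
  set j : Idx Z := i.withSec t htmem
  obtain ⟨ψ₁, rfl⟩ := exists_chart_of_valuationRing l₁ i hs'
  obtain ⟨ψ₂, rfl⟩ := exists_chart_of_valuationRing l₂ j ht'
  have halg : Function.Injective (algebraMap R K) := IsFractionRing.injective R K
  set κ := algebraMap R K
  have hK : Spec.map (CommRingCat.ofHom (κ.comp ψ₁)) ≫ i.ι = Spec.map (CommRingCat.ofHom (κ.comp ψ₂)) ≫ j.ι := by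
    rw [CommRingCat.ofHom_comp, CommRingCat.ofHom_comp, Spec.map_comp, Spec.map_comp, Category.assoc, Category.assoc]
    exact f₁.trans f₂.symm
  -- the generic point lies in the overlap
  have hgen : κ.comp ψ₁ (i.coord t htmem) ≠ 0 := by
    let p : Spec (CommRingCat.of K) := IsLocalRing.closedPoint K
    have h1 : i.ι (Spec.map (CommRingCat.ofHom (κ.comp ψ₁)) p) ∈ j.ι.opensRange := by
      rw [← Scheme.Hom.comp_apply, hK, Scheme.Hom.comp_apply]
      exact ⟨_, rfl⟩
    have h2 : Spec.map (CommRingCat.ofHom (κ.comp ψ₁)) p ∈ i.ι ⁻¹ᵁ Gen (blowUpπ Z) j := j.opensRange_ι ▸ h1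
    rw [gen_preimage (blowUpπ_ec Z) i.ι (by rw [i.ι_π]; exact i.ec), i.ι_π] at h2
    have h3 := (i.ov_eq t htmem).le h2
    intro h0
    exact h3 (show κ.comp ψ₁ (i.coord t htmem) ∈ IsLocalRing.maximalIdeal K by rw [h0]; exact Submodule.zero_mem _)
  obtain ⟨ψ', hψ', -, hψc⟩ := i.change_chart t htmem (κ.comp ψ₁) (isUnit_iff_ne_zero.mpr hgen)
  have e : ψ' = κ.comp ψ₂ := spec_hom_ext (hψ'.trans hK)
  have hsmem : s ∈ Z.ideal i.V := i.mem
  have hu : IsUnit (ψ₁ (i.coord t htmem)) := by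
    refine IsUnit.of_mul_eq_one (ψ₂ (j.coord s hsmem)) (halg ?_)
    have h := hψc s hsmem
    rw [e, RingHom.comp_apply, RingHom.comp_apply, RingHom.comp_apply, show i.coord s hsmem = 1 from frac_self _ _ _,
      map_one] at h
    rw [map_mul, mul_comm, h, map_one]
  obtain ⟨ψ'', hψ'', -, -⟩ := i.change_chart t htmem ψ₁ hu
  rw [← hψ'']
  congr 3
  have : κ.comp ψ'' = κ.comp ψ₂ := by
    refine spec_hom_ext ?_
    rw [CommRingCat.ofHom_comp, Spec.map_comp, Category.assoc, hψ'', ← Category.assoc, ← Spec.map_comp,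
      ← CommRingCat.ofHom_comp, hK]
  exact RingHom.ext fun c => halg (RingHom.congr_fun this c)

lemma valuative_existence (T : Finset Γ(X, ⊤)) (hT : Z.ideal (topOpen X) = Ideal.span (T : Set Γ(X, ⊤))) :
    ValuativeCriterion.Existence (blowUpπ Z) := by
  rintro ⟨R, K, i₁, i₂, ⟨w⟩⟩
  obtain ⟨s, hs, hs'⟩ := exists_top_chart T hT (i₁ (IsLocalRing.closedPoint K))
  set i : Idx Z := topIdx s (hT ▸ Ideal.subset_span hs) with hi
  obtain ⟨ψ, rfl⟩ := exists_chart_of_valuationRing i₁ i hs'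
  have : IsIso (topOpen X).2.fromSpec := by
    rw [IsAffineOpen.fromSpec_top]; infer_instance
  obtain ⟨φ, hφ⟩ := Spec.map_surjective (i₂ ≫ inv (topOpen X).2.fromSpec)
  have hi₂ : i₂ = Spec.map φ ≫ (topOpen X).2.fromSpec := by rw [hφ]; simp
  set κ := algebraMap R K
  have halg : Function.Injective κ := IsFractionRing.injective R K
  have hbase : ∀ x, ψ (algebraMap Γ(X, ⊤) i.alg x) = κ (φ.hom x) := by
    have h1 : Spec.map (i.algHom ≫ CommRingCat.ofHom ψ) ≫ (topOpen X).2.fromSpec =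
        Spec.map (φ ≫ CommRingCat.ofHom κ) ≫ (topOpen X).2.fromSpec := by
      rw [Spec.map_comp, Spec.map_comp, Category.assoc, Category.assoc, ← hi₂, ← w, Category.assoc, i.ι_π]
      rfl
    exact fun x => congrArg (fun m => m.hom x) (Spec.map_injective ((cancel_mono (topOpen X).2.fromSpec).mp h1))
  classical
  let v := ValuationRing.valuation R K
  let val : Γ(X, ⊤) → K := fun x => if hx : x ∈ Z.ideal (topOpen X) then ψ (i.coord x hx) else 0
  obtain ⟨m, hm, hmax⟩ := T.exists_max_image (fun x => v (val x)) ⟨s, hs⟩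
  have hmem : ∀ {x}, x ∈ T → x ∈ Z.ideal (topOpen X) := fun hx => hT ▸ Ideal.subset_span hx
  have hval : ∀ {x} (hx : x ∈ T), val x = ψ (i.coord x (hmem hx)) := fun hx => dif_pos (hmem hx)
  have hm0 : ψ (i.coord m (hmem hm)) ≠ 0 := by
    intro h0
    have := hmax s hs
    rw [hval hm, h0, map_zero, hval hs, show i.coord s (hmem hs) = 1 from frac_self _ _ _, map_one, map_one] at this
    exact one_ne_zero (le_antisymm this zero_le)
  set j := i.withSec m (hmem hm)
  obtain ⟨ψ', hψ', hψb, hψc⟩ := i.change_chart m (hmem hm) ψ (isUnit_iff_ne_zero.mpr hm0)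
  have hin : ∀ c, ψ' c ∈ v.integer := by
    refine affineAlgebra_induction (Z.ideal j.V) j.a (T : Set Γ(X, ⊤)) hT v.integer ψ' (fun x => ?_) fun t ht => ?_
    · rw [show ψ' (algebraMap _ j.alg x) = ψ (algebraMap _ i.alg x) from RingHom.congr_fun hψb x, hbase x]
      exact (ValuationRing.mem_integer_iff R K _).mpr ⟨_, rfl⟩
    · rw [Valuation.mem_integer_iff]
      have h := congrArg v (hψc t (hmem ht))
      rw [map_mul] at h
      have h2 := hmax t ht
      rw [hval ht, hval hm] at h2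
      have hpos : (0 : ValuationRing.ValueGroup R K) < v (ψ (i.coord m (hmem hm))) :=
        zero_lt_iff.mpr ((Valuation.ne_zero_iff v).mpr hm0)
      exact le_of_mul_le_mul_right ((h.le.trans h2).trans (one_mul _).ge) hpos
  choose g hg using fun c => (ValuationRing.mem_integer_iff R K (ψ' c)).mp (hin c)
  let Ψ : j.alg →+* R :=
    { toFun := g
      map_one' := halg (by rw [hg, map_one, map_one])
      map_mul' := fun x y => halg (by rw [hg, map_mul, map_mul, hg, hg])
      map_zero' := halg (by rw [hg, map_zero, map_zero])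
      map_add' := fun x y => halg (by rw [hg, map_add, map_add, hg, hg]) }
  refine ⟨⟨⟨Spec.map (CommRingCat.ofHom Ψ) ≫ j.ι, ?_, ?_⟩⟩⟩
  · show Spec.map (CommRingCat.ofHom κ) ≫ _ = _
    rw [← Category.assoc, ← Spec.map_comp, ← CommRingCat.ofHom_comp,
      show κ.comp Ψ = ψ' from RingHom.ext hg]
    exact hψ'
  · show (Spec.map _ ≫ j.ι) ≫ blowUpπ Z = i₂
    rw [Category.assoc, j.ι_π]
    refine Eq.trans ?_ hi₂.symm
    show Spec.map _ ≫ Spec.map j.algHom ≫ _ = _
    rw [← Spec.map_comp_assoc]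
    congr 2
    refine CommRingCat.hom_ext (RingHom.ext fun x => halg ?_)
    exact (hg _).trans ((RingHom.congr_fun hψb x).trans (hbase x))

include hZ in
lemma blowUp_proper_affine : IsProper (blowUpπ Z) := by
  obtain ⟨T, hT⟩ := hZ (topOpen X)
  have := blowUp_qc hZ
  have := blowUp_qs hZ
  have := blowUp_locallyOfFiniteType hZ
  exact IsProper.of_valuativeCriterion _
    (ValuativeCriterion.iff.mpr ⟨valuative_existence T hT.symm, valuative_uniqueness T hT.symm⟩)

end affine

/-- Blow-ups in finite type centres are proper. -/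
theorem isProper_of_isBlowUp {b : Y ⟶ X} (hb : BlowUp.IsBlowUp b Z) (hZ : BlowUp.IsFiniteTypeIdeal Z) :
    IsProper b := by
  refine (IsZariskiLocalAtTarget.iff_of_iSup_eq_top (P := @IsProper) (fun V : X.affineOpens => V.1)
    (iSup_affineOpens_eq_top X)).mpr fun V => ?_
  have : IsAffine V.1.toScheme := V.2
  obtain ⟨e, he⟩ := isBlowUp_unique (isBlowUp_restrict V.1 hb) (isBlowUp_blowUp (Z.comap V.1.ι))
  have := blowUp_proper_affine (finiteType_comap hZ V.1.ι)
  rw [← he]
  infer_instance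

end Groth.Agent.BlowUpLib
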