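import Groth.Agent.BlowUpLib.Props
import Groth.Prelude.Def_MeroSh

/-!
# More properties of blow-ups: generators, strict transforms, products of centres, regular sections
-/

universe u

open CategoryTheory CategoryTheory.Limits AlgebraicGeometry TopologicalSpace
open scoped nonZeroDivisors

namespace Groth.Agent.BlowUpLib

open Groth.Agent.ModPairBasic

variable {X Y W : Scheme.{u}} {Z : X.IdealSheafData}

lemma mem_basicOpen_of_not_mem_prime {U : X.affineOpens} {x : X} (hx : x ∈ U.1) {f : Γ(X, U.1)}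
    (h : f ∉ (U.2.primeIdealOf ⟨x, hx⟩).asIdeal) : x ∈ X.basicOpen f := by
  have hb : U.2.primeIdealOf ⟨x, hx⟩ ∈ PrimeSpectrum.basicOpen f := h
  rw [← U.2.fromSpec_preimage_basicOpen] at hb
  have hb2 : U.2.fromSpec (U.2.primeIdealOf ⟨x, hx⟩) ∈ X.basicOpen f := hb
  rwa [U.2.fromSpec_primeIdealOf] at hb2

lemma exists_factor_of_span {R S : Type u} [CommRing R] [CommRing S] (φ : R →+* S) (T : Set R) {a : R}
    (ha : a ∈ Ideal.span T) (hn : φ a ∈ S⁰) (hdvd : ∀ t ∈ T, φ a ∣ φ t) (q : Ideal S) (hq : q.IsPrime) :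
    ∃ t ∈ T, ∃ d, φ t = φ a * d ∧ d ∉ q := by
  by_contra hne
  push Not at hne
  have hle : (Ideal.span T).map φ ≤ Ideal.span {φ a} * q := by
    rw [Ideal.map_span, Ideal.span_le]
    rintro _ ⟨t, ht, rfl⟩
    obtain ⟨d, hd⟩ := hdvd t ht
    exact Ideal.mem_span_singleton_mul.mpr ⟨d, hne t ht d hd, hd.symm⟩
  obtain ⟨z, hz, hzp⟩ := Ideal.mem_span_singleton_mul.mp (hle (Ideal.mem_map_of_mem φ ha))
  exact hq.ne_top ((Ideal.eq_top_iff_one _).mpr
    ((mul_cancel_left_mem_nonZeroDivisors hn).mp (hzp.trans (mul_one _).symm) ▸ hz))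

/-- Some member of a generating set of the centre generates near a given point. -/
lemma exists_gen_mem {g : W ⟶ X} (hg : BlowUp.IsEffCartierIdeal (Z.comap g)) (V : X.affineOpens)
    (T : Set Γ(X, V.1)) (hT : Z.ideal V = Ideal.span T) {w : W} (hw : g w ∈ V.1) :
    ∃ (t : Γ(X, V.1)) (ht : t ∈ T), w ∈ Gen g ⟨V, t, hT ▸ Ideal.subset_span ht⟩ := by
  obtain ⟨⟨_, a, ha⟩, rfl, hwa⟩ := exists_gen hg V hw
  obtain ⟨T', hT', hwT'⟩ := mem_gen.mp hwa
  obtain ⟨hle, hid⟩ := hT'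
  have hdvd : ∀ t ∈ T, (g.appLE _ T'.1 hle).hom a ∣ (g.appLE _ T'.1 hle).hom t := fun t ht => by
    refine Ideal.mem_span_singleton.mp ?_
    rw [← hid, IdealComap.ideal_comap Z g T' _ hle, hT]
    exact Ideal.mem_map_of_mem _ (Ideal.subset_span ht)
  obtain ⟨t, ht, d, htd, hdq⟩ := exists_factor_of_span (g.appLE _ T'.1 hle).hom T (hT.le ha) (nzd_of_ec hg hid) hdvd
    (T'.2.primeIdealOf ⟨w, hwT'⟩).asIdeal (T'.2.primeIdealOf ⟨w, hwT'⟩).isPrime
  refine ⟨t, ht, mem_gen.mpr ⟨W.affineBasicOpen d,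
    ⟨(W.basicOpen_le d).trans hle, ?_⟩, mem_basicOpen_of_not_mem_prime hwT' hdq⟩⟩
  have := T'.2.isLocalization_basicOpen d
  rw [ideal_of_le (V := W.affineBasicOpen d) (W.basicOpen_le d) hid]
  refine Eq.trans ?_ (congrArg (fun m => Ideal.span {m.hom t})
    (Scheme.Hom.appLE_map g hle (homOfLE (W.basicOpen_le d)).op))
  show _ = Ideal.span {(W.presheaf.map _).hom ((g.appLE _ T'.1 hle).hom t)}
  rw [htd, map_mul]
  exact (Ideal.span_singleton_mul_right_unit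
    (IsLocalization.map_units Γ(W, W.basicOpen d) (⟨d, Submonoid.mem_powers d⟩ : Submonoid.powers d)) _).symm

lemma comap_subschemeι_self (I : X.IdealSheafData) : I.comap I.subschemeι = ⊥ := by
  refine le_bot_iff.mp ((Scheme.IdealSheafData.map_gc I.subschemeι).l_le ?_)
  rw [Scheme.IdealSheafData.map_bot, Scheme.IdealSheafData.ker_subschemeι]

/-- A generator cannot vanish identically. -/
lemma gen_eq_bot_of_comap_eq_bot {g : W ⟶ X} (hg : BlowUp.IsEffCartierIdeal (Z.comap g)) (i : Idx Z)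
    {I : X.IdealSheafData} (ha : i.a ∈ I.ideal i.V) (hI : I.comap g = ⊥) : Gen g i = ⊥ := by
  refine eq_bot_iff.mpr fun w hw => ?_
  obtain ⟨T, ⟨hle, hid⟩, hwT⟩ := mem_gen.mp hw
  have h0 : (g.appLE i.V.1 T.1 hle).hom i.a = 0 := by
    have := (IdealComap.ideal_comap I g T i.V hle).ge (Ideal.mem_map_of_mem _ ha)
    rwa [hI, Scheme.IdealSheafData.ideal_bot, Pi.bot_apply, Submodule.mem_bot] at this
  have hn := nzd_of_ec hg hid
  rw [h0] at hn
  have h1 : (1 : Γ(W, T.1)) = 0 := mem_nonZeroDivisors_iff_right.mp hn 1 (mul_zero _)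
  have hwb : w ∈ W.basicOpen (1 : Γ(W, T.1)) := by rw [Scheme.basicOpen_of_isUnit W isUnit_one]; exact hwT
  rw [h1, Scheme.basicOpen_zero] at hwb
  exact hwb

/-- A strict transform misses the loci generated by sections of its ideal. -/
lemma strict_not_mem_gen {Y' : Scheme.{u}} {b : Y ⟶ X} (hb : BlowUp.IsBlowUp b Z) {I : X.IdealSheafData}
    {b' : Y' ⟶ I.subscheme} (hb' : BlowUp.IsBlowUp b' (Z.comap I.subschemeι)) {k : Y' ⟶ Y}
    (hk : k ≫ b = b' ≫ I.subschemeι) (i : Idx Z) (ha : i.a ∈ I.ideal i.V) (y : Y') : k y ∉ Gen b i := by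
  intro hy
  have hec : BlowUp.IsEffCartierIdeal (Z.comap (k ≫ b)) := by
    rw [hk, Scheme.IdealSheafData.comap_comp]; exact hb'.1
  have h1 : y ∈ Gen (k ≫ b) i := (gen_preimage hb.1 k hec i).le hy
  rw [gen_eq_bot_of_comap_eq_bot hec i ha (by
    rw [hk, Scheme.IdealSheafData.comap_comp, comap_subschemeι_self, Scheme.IdealSheafData.comap_bot])] at h1
  exact h1

lemma fg_of_local {J : X.IdealSheafData} (h : ∀ x : X, ∃ U : X.affineOpens, x ∈ U.1 ∧ (J.ideal U).FG) :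
    BlowUp.IsFiniteTypeIdeal J := by
  intro U
  let t : Set Γ(X, U.1) := {r | (J.ideal (X.affineBasicOpen r)).FG}
  have ht : Ideal.span t = ⊤ := by
    rw [← U.2.iSup_basicOpen_eq_self_iff]
    refine le_antisymm (iSup_le fun r => X.basicOpen_le _) fun x hx => ?_
    obtain ⟨V, hxV, hV⟩ := h x
    obtain ⟨r, r', e, hxr⟩ := exists_basicOpen_le_affine_inter U.2 V.2 x ⟨hx, hxV⟩
    refine Opens.mem_iSup.mpr ⟨⟨r, ?_⟩, hxr⟩
    show (J.ideal (X.affineBasicOpen r)).FG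
    rw [← J.map_ideal (show X.affineBasicOpen r ≤ V from e.trans_le (X.basicOpen_le r'))]
    exact hV.map _
  refine Ideal.fg_of_localizationSpan t ht fun ⟨r, hr⟩ => ?_
  have := U.2.isLocalization_basicOpen r
  let e := IsLocalization.algEquiv (Submonoid.powers r) Γ(X, X.basicOpen r) (Localization.Away r)
  have h1 : (J.ideal U).map (algebraMap Γ(X, U.1) (Localization.Away r)) =
      ((J.ideal U).map (algebraMap Γ(X, U.1) Γ(X, X.basicOpen r))).map e.toRingHom := by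
    rw [Ideal.map_map]
    congr 1
    exact RingHom.ext fun x => (e.commutes x).symm
  rw [h1]
  refine Ideal.FG.map ?_ _
  show ((J.ideal U).map (X.presheaf.map (homOfLE (X.basicOpen_le r)).op).hom).FG
  rw [J.map_ideal_basicOpen]
  exact hr

lemma finiteType_comap {J : X.IdealSheafData} (hJ : BlowUp.IsFiniteTypeIdeal J) (f : W ⟶ X) :
    BlowUp.IsFiniteTypeIdeal (J.comap f) := by
  refine fg_of_local fun w => ?_
  obtain ⟨_, ⟨V, hV, rfl⟩, hwV, -⟩ := X.isBasis_affineOpens.exists_subset_of_mem_open (Set.mem_univ (f w)) isOpen_univ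
  obtain ⟨_, ⟨T, hT, rfl⟩, hwT, hTV⟩ :=
    W.isBasis_affineOpens.exists_subset_of_mem_open (show w ∈ f ⁻¹ᵁ V from hwV) (f ⁻¹ᵁ V).isOpen
  refine ⟨⟨T, hT⟩, hwT, ?_⟩
  rw [IdealComap.ideal_comap J f ⟨T, hT⟩ ⟨V, hV⟩ hTV]
  exact (hJ _).map _

lemma finiteType_prod {ι : Type*} (s : Finset ι) {I : ι → X.IdealSheafData}
    (h : ∀ i ∈ s, BlowUp.IsFiniteTypeIdeal (I i)) : BlowUp.IsFiniteTypeIdeal (∏ i ∈ s, I i) := by
  classical
  induction s using Finset.induction_on with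
  | empty =>
    intro U
    rw [Finset.prod_empty]
    exact ⟨{1}, by rw [Finset.coe_singleton]; exact Ideal.span_singleton_one⟩
  | insert a s ha ih =>
    intro U
    rw [Finset.prod_insert ha, Scheme.IdealSheafData.ideal_mul, Pi.mul_apply]
    exact Submodule.FG.mul (h a (Finset.mem_insert_self a s) U) (ih (fun i hi => h i (Finset.mem_insert_of_mem hi)) U)

lemma support_prod {ι : Type*} (s : Finset ι) (I : ι → X.IdealSheafData) {x : X}
    (h : x ∈ (∏ i ∈ s, I i).support) : ∃ i ∈ s, x ∈ (I i).support := by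
  classical
  induction s using Finset.induction_on with
  | empty =>
    rw [Finset.prod_empty, show (1 : X.IdealSheafData) = ⊤ from rfl, Scheme.IdealSheafData.support_top] at h
    exact h.elim
  | insert a s ha ih =>
    rw [Finset.prod_insert ha, Scheme.IdealSheafData.support_mul] at h
    rcases h with h | h
    · exact ⟨a, Finset.mem_insert_self a s, h⟩
    · obtain ⟨i, hi, hx⟩ := ih h; exact ⟨i, Finset.mem_insert_of_mem hi, hx⟩

/-- A blow-up in a product factors through the blow-up in a factor, the factor being a blow-up again. -/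
theorem factor_of_mul {X₁ : Scheme.{u}} {I J : X.IdealSheafData} {b : X₁ ⟶ X} (hb : BlowUp.IsBlowUp b I)
    {c : Y ⟶ X} (hc : BlowUp.IsBlowUp c (I * J)) :
    ∃ g : Y ⟶ X₁, g ≫ b = c ∧ BlowUp.IsBlowUp g ((I * J).comap b) := by
  have hcI : BlowUp.IsEffCartierIdeal (I.comap c) := ec_of_mul (comap_mul I J c ▸ hc.1)
  obtain ⟨g, hg, hgu⟩ := hb.2 Y c hcI
  refine ⟨g, hg, ?_, fun W k hk => ?_⟩
  · rw [← Scheme.IdealSheafData.comap_comp, hg]; exact hc.1
  · rw [← Scheme.IdealSheafData.comap_comp] at hk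
    have hkI : BlowUp.IsEffCartierIdeal (I.comap (k ≫ b)) := ec_of_mul (comap_mul I J (k ≫ b) ▸ hk)
    obtain ⟨m, hm, hmu⟩ := hc.2 W (k ≫ b) hk
    obtain ⟨q, -, hqu⟩ := hb.2 W (k ≫ b) hkI
    refine ⟨m, ?_, fun n hn => hmu n ?_⟩
    · show m ≫ g = k
      exact (hqu _ (show (m ≫ g) ≫ b = k ≫ b by rw [Category.assoc, hg]; exact hm)).trans (hqu k rfl).symm
    · show n ≫ c = k ≫ b
      rw [← hg, ← Category.assoc, hn]

/-- Principal ideal sheaf of a nonzerodivisor on an affine scheme. -/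
lemma exists_ec_principal [IsAffine X] {h : Γ(X, ⊤)} (hh : h ∈ Γ(X, ⊤)⁰) :
    ∃ H : X.IdealSheafData, BlowUp.IsEffCartierIdeal H ∧ H.ideal ⟨⊤, isAffineOpen_top X⟩ = Ideal.span {h} := by
  refine ⟨Scheme.IdealSheafData.equivOfIsAffine.symm (Ideal.span {h}), fun x => ?_, ?_⟩
  · exact ⟨⟨⊤, isAffineOpen_top X⟩, trivial, h, hh,
      Scheme.IdealSheafData.equivOfIsAffine.apply_symm_apply (Ideal.span {h})⟩
  · exact Scheme.IdealSheafData.equivOfIsAffine.apply_symm_apply (Ideal.span {h})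

lemma nzd_of_germs {U : X.Opens} {s : Γ(X, U)} (hs : s ∈ Mero.regSub X U) : s ∈ Γ(X, U)⁰ := by
  refine mem_nonZeroDivisors_iff_right.mpr fun t ht => ?_
  refine TopCat.Presheaf.section_ext X.sheaf U t 0 fun x hx => ?_
  refine (mem_nonZeroDivisors_iff_right.mp (hs ⟨x, hx⟩) _ ?_).trans (map_zero _).symm
  exact (map_mul (X.presheaf.germ U x hx).hom t s).symm.trans
    ((congrArg (X.presheaf.germ U x hx).hom ht).trans (map_zero _))

lemma res_app_germ (b : Y ⟶ X) {U U₁ : X.Opens} (i : Opposite.op U ⟶ Opposite.op U₁) {O : Y.Opens}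
    (j : Opposite.op (b ⁻¹ᵁ U₁) ⟶ Opposite.op O) (y : Y) (hy' : y ∈ O) (hy : y ∈ b ⁻¹ᵁ U) :
    X.presheaf.map i ≫ (b.app U₁ ≫ Y.presheaf.map j) ≫ Y.presheaf.germ O y hy' =
      b.app U ≫ Y.presheaf.germ (b ⁻¹ᵁ U) y hy := by
  rw [Category.assoc, Scheme.Hom.naturality_assoc, ← j.op_unop,
    TopCat.Presheaf.germ_res, TopCat.Presheaf.germ_res]

/-- Regular sections pull back to regular sections along blow-ups. -/
theorem app_mem_regSub {b : Y ⟶ X} (hb : BlowUp.IsBlowUp b Z) {U : X.Opens} {s : Γ(X, U)}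
    (hs : s ∈ Mero.regSub X U) : b.app U s ∈ Mero.regSub Y (b ⁻¹ᵁ U) := by
  rintro ⟨y, hy⟩
  obtain ⟨V, hV, hyV, hVU⟩ := AlgebraicGeometry.exists_isAffineOpen_mem_and_subset (X := X) (x := b y) (U := U) hy
  replace hVU : V ≤ U := hVU
  have : IsAffine V.toScheme := hV
  let h : Γ(V.toScheme, ⊤) := V.topIso.inv (X.presheaf.map (homOfLE hVU).op s)
  have hh : h ∈ Γ(V.toScheme, ⊤)⁰ :=
    (MulEquivClass.map_nonZeroDivisors V.topIso.symm.commRingCatIsoToRingEquiv).le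
      ⟨_, nzd_of_germs (Mero.regSub_res (homOfLE hVU) hs), rfl⟩
  obtain ⟨H, hH, hHt⟩ := exists_ec_principal hh
  have hec := ec_comap_of_isBlowUp (isBlowUp_restrict V hb) hH
  obtain ⟨_, ⟨T, hT, rfl⟩, hyT, -⟩ := (b ⁻¹ᵁ V).toScheme.isBasis_affineOpens.exists_subset_of_mem_open
    (Set.mem_univ (⟨y, hyV⟩ : (b ⁻¹ᵁ V).toScheme)) isOpen_univ
  have hid := IdealComap.ideal_comap H (b ∣_ V) ⟨T, hT⟩ ⟨⊤, isAffineOpen_top _⟩ le_top
  rw [hHt, Ideal.map_span, Set.image_singleton] at hid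
  have hn := nzd_of_ec hec hid
  letI := TopCat.Presheaf.algebra_section_stalk (b ⁻¹ᵁ V).toScheme.presheaf (⟨⟨y, hyV⟩, hyT⟩ : T)
  have : IsLocalization.AtPrime ((b ⁻¹ᵁ V).toScheme.presheaf.stalk ⟨y, hyV⟩)
      (hT.primeIdealOf ⟨⟨y, hyV⟩, hyT⟩).asIdeal := hT.isLocalization_stalk ⟨⟨y, hyV⟩, hyT⟩
  let φ := (b ∣_ V).appLE ⊤ T le_top ≫ (b ⁻¹ᵁ V).toScheme.presheaf.germ T ⟨y, hyV⟩ hyT ≫
    ((b ⁻¹ᵁ V).stalkIso ⟨y, hyV⟩).hom
  have h1 : φ.hom h ∈ (Y.presheaf.stalk y)⁰ :=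
    (MulEquivClass.map_nonZeroDivisors ((b ⁻¹ᵁ V).stalkIso ⟨y, hyV⟩).commRingCatIsoToRingEquiv).le
      ⟨_, IsLocalization.map_nonZeroDivisors_le (hT.primeIdealOf ⟨⟨y, hyV⟩, hyT⟩).asIdeal.primeCompl _ ⟨_, hn, rfl⟩, rfl⟩
  have key : X.presheaf.map (homOfLE hVU).op ≫ V.topIso.inv ≫ φ = b.app U ≫ Y.presheaf.germ (b ⁻¹ᵁ U) y hy := by
    simp only [φ, morphismRestrict_appLE, Scheme.Opens.topIso_inv]
    simp [Scheme.Hom.appLE, Scheme.Opens.germ_stalkIso_hom]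
    erw [← Functor.map_comp_assoc]
    exact res_app_germ b _ _ _ _ _
  have h2 := congrArg (fun m => m.hom s) key
  simp only [CommRingCat.hom_comp, RingHom.comp_apply] at h2
  exact h2 ▸ h1

end Groth.Agent.BlowUpLib
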