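import Groth.Agent.ModPairBasic.BlowUp
import Groth.Agent.ModPairBasic.Open

/-!
# Blow-ups: elementary facts about effective Cartier ideals
-/

universe u

open CategoryTheory CategoryTheory.Limits AlgebraicGeometry TopologicalSpace
open scoped nonZeroDivisors

namespace Groth.Agent.BlowUpLib

open Groth.Agent.ModPairBasic

variable {X Y : Scheme.{u}}

lemma comap_mul (I J : Y.IdealSheafData) (f : X ⟶ Y) : (I * J).comap f = I.comap f * J.comap f := by
  have key : ∀ x : X, ∃ (T : X.affineOpens) (V : Y.affineOpens), x ∈ T.1 ∧ T.1 ≤ f ⁻¹ᵁ V.1 := fun x => by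
    obtain ⟨_, ⟨V, hV, rfl⟩, hxV, -⟩ := Y.isBasis_affineOpens.exists_subset_of_mem_open (Set.mem_univ (f x)) isOpen_univ
    obtain ⟨_, ⟨T, hT, rfl⟩, hxT, hTV⟩ :=
      X.isBasis_affineOpens.exists_subset_of_mem_open (show x ∈ f ⁻¹ᵁ V from hxV) (f ⁻¹ᵁ V).isOpen
    exact ⟨⟨T, hT⟩, ⟨V, hV⟩, hxT, hTV⟩
  choose T V hxT hTV using key
  refine Scheme.IdealSheafData.ext_of_iSup_eq_top T (eq_top_iff.mpr fun x _ => Opens.mem_iSup.mpr ⟨x, hxT x⟩) fun x => ?_
  rw [IdealComap.ideal_comap (I * J) f (T x) (V x) (hTV x), Scheme.IdealSheafData.ideal_mul, Pi.mul_apply,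
    Scheme.IdealSheafData.ideal_mul, Pi.mul_apply,
    IdealComap.ideal_comap I f (T x) (V x) (hTV x), IdealComap.ideal_comap J f (T x) (V x) (hTV x), Ideal.map_mul]

lemma exists_gen_of_mul_eq {R : Type u} [CommRing R] {I J : Ideal R} {p a b u : R} (hp : p ∈ R⁰)
    (h : I * J = Ideal.span {p}) (ha : a ∈ I) (hb : b ∈ J) (hab : a * b = p * u) (hu : IsUnit u) :
    ∃ k ∈ R⁰, I = Ideal.span {k} := by
  have hn : a ∈ R⁰ ∧ b ∈ R⁰ := mul_mem_nonZeroDivisors.mp (hab ▸ mul_mem hp hu.mem_nonZeroDivisors)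
  obtain ⟨v, hv⟩ := hu.exists_right_inv
  refine ⟨a, hn.1, le_antisymm (fun y hy => ?_) ((Ideal.span_singleton_le_iff_mem _).mpr ha)⟩
  obtain ⟨c, hc⟩ := Ideal.mem_span_singleton.mp (h.le (Ideal.mul_mem_mul hy hb))
  refine Ideal.mem_span_singleton.mpr ⟨c * v, (mul_cancel_right_mem_nonZeroDivisors hn.2).mp ?_⟩
  calc y * b = p * c := hc
    _ = p * c * (u * v) := by rw [hv, mul_one]
    _ = (p * u) * c * v := by ring
    _ = a * (c * v) * b := by rw [← hab]; ring

lemma exists_unit_coeff {R : Type u} [CommRing R] {I J : Ideal R} {p : R} (hp : p ∈ R⁰)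
    (h : I * J = Ideal.span {p}) (q : Ideal R) (hq : q.IsPrime) :
    ∃ a ∈ I, ∃ b ∈ J, ∃ u, a * b = p * u ∧ u ∉ q := by
  by_contra hne
  push Not at hne
  have hle : I * J ≤ Ideal.span {p} * q := Ideal.mul_le.mpr fun a ha b hb => by
    obtain ⟨c, hc⟩ := Ideal.mem_span_singleton.mp (h.le (Ideal.mul_mem_mul ha hb))
    exact Ideal.mem_span_singleton_mul.mpr ⟨c, hne a ha b hb c hc, hc.symm⟩
  obtain ⟨z, hz, hzp⟩ := Ideal.mem_span_singleton_mul.mp (hle (h.ge (Ideal.mem_span_singleton_self p)))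
  exact hq.ne_top ((Ideal.eq_top_iff_one _).mpr
    ((mul_cancel_left_mem_nonZeroDivisors hp).mp (hzp.trans (mul_one p).symm) ▸ hz))

/-- If a product is effective Cartier then so is each factor. -/
theorem ec_of_mul {I J : X.IdealSheafData} (h : BlowUp.IsEffCartierIdeal (I * J)) : BlowUp.IsEffCartierIdeal I := by
  intro x
  obtain ⟨U, hxU, p, hp, hU⟩ := h x
  rw [Scheme.IdealSheafData.ideal_mul, Pi.mul_apply] at hU
  obtain ⟨a, ha, b, hb, u, hab, hu⟩ :=
    exists_unit_coeff hp hU (U.2.primeIdealOf ⟨x, hxU⟩).asIdeal (U.2.primeIdealOf ⟨x, hxU⟩).isPrime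
  have hxu : x ∈ X.basicOpen u := by
    have hb : U.2.primeIdealOf ⟨x, hxU⟩ ∈ PrimeSpectrum.basicOpen u := hu
    rw [← U.2.fromSpec_preimage_basicOpen] at hb
    have hb2 : U.2.fromSpec (U.2.primeIdealOf ⟨x, hxU⟩) ∈ X.basicOpen u := hb
    rwa [U.2.fromSpec_primeIdealOf] at hb2
  have := U.2.isLocalization_basicOpen u
  set φ := (X.presheaf.map (homOfLE (X.basicOpen_le u)).op).hom
  obtain ⟨k, hk, hI⟩ := exists_gen_of_mul_eq (I := (I.ideal U).map φ) (J := (J.ideal U).map φ) (nzd_basicOpen hp u)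
    (by rw [← Ideal.map_mul, hU, Ideal.map_span, Set.image_singleton]) (Ideal.mem_map_of_mem φ ha)
    (Ideal.mem_map_of_mem φ hb) (show φ a * φ b = φ p * φ u by rw [← map_mul, ← map_mul, hab])
    (IsLocalization.map_units Γ(X, X.basicOpen u) (⟨u, Submonoid.mem_powers u⟩ : Submonoid.powers u))
  exact ⟨X.affineBasicOpen u, hxu, k, hk, (I.map_ideal_basicOpen U u).symm.trans hI⟩

lemma isLocPrincipal_of_curv2 {I : X.IdealSheafData}
    (h : ∀ x ∈ I.support, ∃ U : X.affineOpens, x ∈ (U : X.Opens) ∧ ∃ f : Γ(X, U), I.ideal U = Ideal.span {f}) :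
    IsLocPrincipal I := by
  intro x
  by_cases hx : x ∈ I.support
  · exact h x hx
  · obtain ⟨_, ⟨U, hU, rfl⟩, hxU, -⟩ := X.isBasis_affineOpens.exists_subset_of_mem_open (Set.mem_univ x) isOpen_univ
    have hx' := mt (Scheme.IdealSheafData.mem_support_iff_of_mem (U := ⟨U, hU⟩) hxU).mpr hx
    rw [Scheme.mem_zeroLocus_iff] at hx'
    push Not at hx'
    obtain ⟨g, hg, hxg⟩ := hx'
    refine ⟨X.affineBasicOpen (U := ⟨U, hU⟩) g, hxg, 1, ?_⟩
    rw [Ideal.span_singleton_one, ← I.map_ideal_basicOpen ⟨U, hU⟩ g]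
    have := hU.isLocalization_basicOpen g
    exact Ideal.eq_top_of_isUnit_mem _ (Ideal.mem_map_of_mem _ hg)
      (IsLocalization.map_units Γ(X, X.basicOpen g) (⟨g, Submonoid.mem_powers g⟩ : Submonoid.powers g))

/-- Blowing up in `I` is blowing up in `I * D` for a divisor `D`. -/
theorem isBlowUp_mul {I D : X.IdealSheafData} {b : Y ⟶ X} (hD : BlowUp.IsEffCartierIdeal D)
    (hb : BlowUp.IsBlowUp b I) : BlowUp.IsBlowUp b (I * D) := by
  refine ⟨?_, fun W g hg => hb.2 W g ?_⟩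
  · rw [comap_mul]; exact ec_mul hb.1 (ec_comap_of_isBlowUp hb hD)
  · rw [comap_mul] at hg; exact ec_of_mul hg

/-- The divisor `D_X + D_T - E`. -/
theorem ambProd_props {S T X Y : Scheme.{u}} {J : T.IdealSheafData} {I : X.IdealSheafData}
    (hT : BlowUp.IsEffCartierIdeal J) (hX : BlowUp.IsEffCartierIdeal I)
    (f : X ⟶ S) (g : T ⟶ S) (π : Y ⟶ ModPair.mprod f g I J) (K : Y.IdealSheafData)
    (hY : ModPair.IsAmbProd f g I J π K) :
    BlowUp.IsEffCartierIdeal K ∧
      ModPair.IsAmbient K I (π ≫ ModPair.mprodι f g I J ≫ pullback.fst f g) ∧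
      ModPair.IsAmbient K J (π ≫ ModPair.mprodι f g I J ≫ pullback.snd f g) ∧
      ModPair.interior K = (π ≫ ModPair.mprodι f g I J) ⁻¹ᵁ ModPair.prodInterior f g I J := by
  obtain ⟨hb, hK⟩ := hY
  set I' := I.comap (ModPair.mprodι f g I J ≫ pullback.fst f g) with hI'
  set J' := J.comap (ModPair.mprodι f g I J ≫ pullback.snd f g) with hJ'
  have hprod : BlowUp.IsEffCartierIdeal (I' * J') := by
    have h := ec_comap_image (O := ModPair.prodInterior f g I J)
      (isLocPrincipal_mul (isLocPrincipal_comap (isLocPrincipal_of_ec hX) (pullback.fst f g))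
        (isLocPrincipal_comap (isLocPrincipal_of_ec hT) (pullback.snd f g))) (prodInterior_eq f g I J)
    rwa [comap_mul, ← Scheme.IdealSheafData.comap_comp, ← Scheme.IdealSheafData.comap_comp] at h
  set A := I'.comap π
  set B := J'.comap π
  set E := (ModPair.prodCentre f g I J).comap π with hE
  have hEeq : E = A ⊔ B := Scheme.IdealSheafData.comap_sup ..
  have hA : BlowUp.IsEffCartierIdeal A := ec_comap_of_isBlowUp hb (ec_of_mul hprod)
  have hB : BlowUp.IsEffCartierIdeal B := ec_comap_of_isBlowUp hb (ec_of_mul (mul_comm I' J' ▸ hprod))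
  have hEC : BlowUp.IsEffCartierIdeal E := hb.1
  have hKec : BlowUp.IsEffCartierIdeal K := ec_of_mul (hK.symm ▸ ec_mul hA hB)
  have key : ∀ A B : Y.IdealSheafData, BlowUp.IsEffCartierIdeal A → K * E = A * B → B ≤ E → K ≤ A := by
    intro A B hA hKE hBE
    have hle : K * E ≤ A * E := by
      rw [hKE]
      intro U
      rw [Scheme.IdealSheafData.ideal_mul, Scheme.IdealSheafData.ideal_mul]
      exact Ideal.mul_mono le_rfl (hBE U)
    choose U hU e he hEU using hEC
    refine Scheme.IdealSheafData.le_of_iSup_eq_top U (eq_top_iff.mpr fun y _ => Opens.mem_iSup.mpr ⟨y, hU y⟩) fun y => ?_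
    intro k hk
    have h := hle (U y)
    rw [Scheme.IdealSheafData.ideal_mul, Pi.mul_apply, Scheme.IdealSheafData.ideal_mul, Pi.mul_apply, hEU y] at h
    obtain ⟨c, hc, hce⟩ := Ideal.mem_mul_span_singleton.mp (h (Ideal.mul_mem_mul hk (Ideal.mem_span_singleton_self _)))
    rwa [← (mul_cancel_right_mem_nonZeroDivisors (he y)).mp hce]
  have hK' : K * E = A * B := hK
  have h1 : K ≤ A := key A B hA hK' (hEeq ▸ le_sup_right)
  have h2 : K ≤ B := key B A hB (by rw [hK', mul_comm]) (hEeq ▸ le_sup_left)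
  refine ⟨hKec, ?_, ?_, ?_⟩
  · show K ≤ _
    rw [Scheme.IdealSheafData.comap_comp]
    exact h1
  · show K ≤ _
    rw [Scheme.IdealSheafData.comap_comp]
    exact h2
  · rw [prodInterior_eq, preimage_interior, comap_mul, interior_mul, ← Scheme.IdealSheafData.comap_comp,
      ← Scheme.IdealSheafData.comap_comp, Category.assoc, Category.assoc, Scheme.IdealSheafData.comap_comp _ π,
      Scheme.IdealSheafData.comap_comp _ π]
    refine le_antisymm (le_inf (interior_mono h1) (interior_mono h2)) ?_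
    have := interior_mul K E
    rw [hK', interior_mul] at this
    exact this.le.trans inf_le_left

end Groth.Agent.BlowUpLib
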