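import Groth.Agent.BlowUpLib.Basic

/-!
# Blow-up charts and their universal property
-/

universe u

open CategoryTheory CategoryTheory.Limits AlgebraicGeometry TopologicalSpace
open scoped nonZeroDivisors

namespace Groth.Agent.BlowUpLib

open Groth.Agent.ModPairBasic

variable {X : Scheme.{u}}

/-- Index of a chart: an affine open of the base with a section of the centre on it. -/
structure Idx (Z : X.IdealSheafData) : Type u where
  V : X.affineOpens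
  a : Γ(X, V.1)
  mem : a ∈ Z.ideal V

variable {Z : X.IdealSheafData}

noncomputable abbrev Idx.alg (i : Idx Z) : Type u := BlowUp.affineAlgebra Γ(X, i.V.1) (Z.ideal i.V) i.a

noncomputable abbrev Idx.algHom (i : Idx Z) : Γ(X, i.V.1) ⟶ CommRingCat.of i.alg :=
  CommRingCat.ofHom (algebraMap Γ(X, i.V.1) i.alg)

/-- The chart `Spec A[Z/a]`. -/
noncomputable abbrev Idx.chart (i : Idx Z) : Scheme.{u} := Spec (CommRingCat.of i.alg)

noncomputable def Idx.f (i : Idx Z) : i.chart ⟶ X := Spec.map i.algHom ≫ i.V.2.fromSpec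

lemma Idx.ec (i : Idx Z) : BlowUp.IsEffCartierIdeal (Z.comap i.f) :=
  ec_specMap i.algHom (self_mem_nzd _ i.a) (map_affineAlgebra _ i.a i.mem)

variable {W W' : Scheme.{u}}

/-- The affine opens on which `i.a` generates the pulled back centre. -/
def genSet (g : W ⟶ X) (i : Idx Z) : Set W.affineOpens :=
  {T | ∃ h : T.1 ≤ g ⁻¹ᵁ i.V.1, (Z.comap g).ideal T = Ideal.span {(g.appLE i.V.1 T.1 h).hom i.a}}

/-- The locus where `i.a` generates the pulled back centre. -/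
def Gen (g : W ⟶ X) (i : Idx Z) : W.Opens := ⨆ T : genSet g i, T.1.1

lemma gen_le (g : W ⟶ X) (i : Idx Z) : Gen g i ≤ g ⁻¹ᵁ i.V.1 := iSup_le fun T => T.2.1

lemma mem_gen {g : W ⟶ X} {i : Idx Z} {w : W} : w ∈ Gen g i ↔ ∃ T ∈ genSet g i, w ∈ T.1 := by
  rw [Gen, Opens.mem_iSup]
  exact ⟨fun ⟨T, hT⟩ => ⟨T.1, T.2, hT⟩, fun ⟨T, h1, h2⟩ => ⟨⟨T, h1⟩, h2⟩⟩

lemma genSet_of_le {g : W ⟶ X} {i : Idx Z} {T T' : W.affineOpens} (hT : T ∈ genSet g i) (h : T'.1 ≤ T.1) :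
    T' ∈ genSet g i := by
  obtain ⟨hTV, hT⟩ := hT
  refine ⟨h.trans hTV, ?_⟩
  rw [ideal_of_le (V := T') h hT]
  congr 2
  show ((g.appLE i.V.1 T.1 hTV) ≫ W.presheaf.map (homOfLE h).op).hom i.a = _
  rw [Scheme.Hom.appLE_map]

lemma exists_genSet {g : W ⟶ X} {i : Idx Z} {w : W} (h : w ∈ Gen g i) {O : W.Opens} (hw : w ∈ O) :
    ∃ T ∈ genSet g i, w ∈ T.1 ∧ T.1 ≤ O := by
  obtain ⟨T, hT, hwT⟩ := mem_gen.mp h
  obtain ⟨_, ⟨T', hT', rfl⟩, hwT', hsub⟩ := W.isBasis_affineOpens.exists_subset_of_mem_open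
    (show w ∈ T.1 ⊓ O from ⟨hwT, hw⟩) (T.1 ⊓ O).isOpen
  exact ⟨⟨T', hT'⟩, genSet_of_le hT fun y hy => (hsub hy).1, hwT', fun y hy => (hsub hy).2⟩

lemma exists_gen {g : W ⟶ X} (hg : BlowUp.IsEffCartierIdeal (Z.comap g)) (V : X.affineOpens) {w : W}
    (hw : g w ∈ V.1) : ∃ i : Idx Z, i.V = V ∧ w ∈ Gen g i := by
  obtain ⟨T, hT, a, hwT, ha, -, hid⟩ := exists_chart hg V hw
  exact ⟨⟨V, a, ha⟩, rfl, mem_gen.mpr ⟨T, ⟨hT, hid⟩, hwT⟩⟩

lemma genSet_preimage {g : W ⟶ X} {i : Idx Z} (h : W' ⟶ W) {T : W.affineOpens} (hT : T ∈ genSet g i)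
    {T' : W'.affineOpens} (hle : T'.1 ≤ h ⁻¹ᵁ T.1) : T' ∈ genSet (h ≫ g) i := by
  obtain ⟨hTV, hT⟩ := hT
  refine ⟨fun y hy => hTV (hle hy), ?_⟩
  rw [Scheme.IdealSheafData.comap_comp, IdealComap.ideal_comap (Z.comap g) h T' T hle, hT, Ideal.map_span,
    Set.image_singleton, ← Scheme.Hom.appLE_comp_appLE h g i.V.1 T.1 T'.1 hTV hle]
  rfl

/-- The generating locus commutes with pull-back. -/
lemma gen_preimage {g : W ⟶ X} (hg : BlowUp.IsEffCartierIdeal (Z.comap g)) (h : W' ⟶ W)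
    (hh : BlowUp.IsEffCartierIdeal (Z.comap (h ≫ g))) (i : Idx Z) : h ⁻¹ᵁ Gen g i = Gen (h ≫ g) i := by
  refine le_antisymm (fun y hy => ?_) (fun y hy => ?_)
  · obtain ⟨T, hT, hyT⟩ := mem_gen.mp (show h y ∈ Gen g i from hy)
    obtain ⟨_, ⟨T', hT', rfl⟩, hyT', hsub⟩ :=
      W'.isBasis_affineOpens.exists_subset_of_mem_open (show y ∈ h ⁻¹ᵁ T.1 from hyT) (h ⁻¹ᵁ T.1).isOpen
    exact mem_gen.mpr ⟨⟨T', hT'⟩, genSet_preimage h hT hsub, hyT'⟩
  · have hgy : g (h y) ∈ i.V.1 := gen_le (h ≫ g) i hy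
    obtain ⟨T, hT, b, hxT, hb, hbn, hbT⟩ := exists_chart hg i.V hgy
    obtain ⟨d, hd⟩ : ∃ d : Γ(W, T.1), g.appLE i.V.1 T.1 hT i.a = g.appLE i.V.1 T.1 hT b * d := by
      refine Ideal.mem_span_singleton.mp ?_
      rw [← hbT, IdealComap.ideal_comap Z g T i.V hT]
      exact Ideal.mem_map_of_mem _ i.mem
    obtain ⟨T', hT', hyT', hsub⟩ := exists_genSet hy (show y ∈ h ⁻¹ᵁ T.1 from hxT)
    have hspan := hT'.2
    obtain ⟨c, hc⟩ : ∃ c : Γ(W', T'.1), (h ≫ g).appLE i.V.1 T'.1 hT'.1 b = (h ≫ g).appLE i.V.1 T'.1 hT'.1 i.a * c := by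
      refine Ideal.mem_span_singleton.mp ?_
      rw [← hspan, IdealComap.ideal_comap Z (h ≫ g) T' i.V hT'.1]
      exact Ideal.mem_map_of_mem _ hb
    have hn := nzd_of_ec hh hspan
    rw [← Scheme.Hom.appLE_comp_appLE h g i.V.1 T.1 T'.1 hT hsub, CommRingCat.comp_apply,
      CommRingCat.comp_apply, hd, map_mul] at hc
    have hn' : h.appLE T.1 T'.1 hsub (g.appLE i.V.1 T.1 hT b) ∈ Γ(W', T'.1)⁰ := by
      have : (h ≫ g).appLE i.V.1 T'.1 hT'.1 i.a =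
          h.appLE T.1 T'.1 hsub (g.appLE i.V.1 T.1 hT b) * h.appLE T.1 T'.1 hsub d := by
        rw [← map_mul, ← hd, ← Scheme.Hom.appLE_comp_appLE h g i.V.1 T.1 T'.1 hT hsub]
        rfl
      exact (mul_mem_nonZeroDivisors.mp (this ▸ hn)).1
    have hu : IsUnit (h.appLE T.1 T'.1 hsub d) := by
      refine IsUnit.of_mul_eq_one c ((mul_cancel_left_mem_nonZeroDivisors hn').mp ?_)
      rw [mul_one, ← mul_assoc]
      exact hc.symm
    have hxd : h y ∈ W.basicOpen d := by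
      have h1 : y ∈ W'.basicOpen (h.appLE T.1 T'.1 hsub d) := by rw [Scheme.basicOpen_of_isUnit W' hu]; exact hyT'
      rw [Scheme.basicOpen_appLE] at h1
      exact h1.2
    refine mem_gen.mpr ⟨W.affineBasicOpen d, ⟨(W.basicOpen_le d).trans hT, ?_⟩, hxd⟩
    rw [ideal_of_le (V := W.affineBasicOpen d) (W.basicOpen_le d) hbT]
    have := T.2.isLocalization_basicOpen d
    have e : (g.appLE i.V.1 (W.basicOpen d) ((W.basicOpen_le d).trans hT)).hom i.a =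
        (W.presheaf.map (homOfLE (W.basicOpen_le d)).op).hom ((g.appLE i.V.1 T.1 hT).hom i.a) := by
      rw [← Scheme.Hom.appLE_map g hT (homOfLE (W.basicOpen_le d)).op]
      rfl
    refine Eq.trans ?_ (congrArg (fun z => Ideal.span {z}) e).symm
    rw [show (g.appLE i.V.1 T.1 hT).hom i.a = (g.appLE i.V.1 T.1 hT).hom b * d from hd, map_mul]
    exact (Ideal.span_singleton_mul_right_unit
      (IsLocalization.map_units Γ(W, W.basicOpen d) (⟨d, Submonoid.mem_powers d⟩ : Submonoid.powers d)) _).symm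

lemma top_mem_genSet {R : CommRingCat.{u}} (i : Idx Z) (φ : Γ(X, i.V.1) ⟶ R)
    (h : (Z.ideal i.V).map φ.hom = Ideal.span {φ.hom i.a}) :
    (⟨⊤, isAffineOpen_top (Spec R)⟩ : (Spec R).affineOpens) ∈ genSet (Spec.map φ ≫ i.V.2.fromSpec) i := by
  have hle : (⊤ : (Spec R).Opens) ≤ (Spec.map φ ≫ i.V.2.fromSpec) ⁻¹ᵁ i.V.1 := fun y _ => by
    show (Spec.map φ ≫ i.V.2.fromSpec) y ∈ i.V.1
    rw [Scheme.Hom.comp_apply]
    exact i.V.2.range_fromSpec.le ⟨_, rfl⟩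
  refine ⟨hle, ?_⟩
  have e : (Spec.map φ ≫ i.V.2.fromSpec).appLE i.V.1 ⊤ hle = φ ≫ (Scheme.ΓSpecIso R).inv := by
    apply Spec.map_injective
    have h1 := IsAffineOpen.SpecMap_appLE_fromSpec (Spec.map φ ≫ i.V.2.fromSpec) i.V.2
      (isAffineOpen_top (Spec R)) hle
    rw [IsAffineOpen.fromSpec_top, Scheme.isoSpec_Spec_inv] at h1
    have := i.V.2.isOpenImmersion_fromSpec
    refine (cancel_mono i.V.2.fromSpec).mp ?_
    rw [Spec.map_comp, Category.assoc]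
    exact h1
  rw [ideal_comap_specMap, CommRingCat.hom_comp, ← Ideal.map_map, h, Ideal.map_span, Set.image_singleton]
  exact (congrArg (fun m => Ideal.span {m.hom i.a}) e).symm

lemma Idx.gen_f (i : Idx Z) : Gen i.f i = ⊤ := by
  refine eq_top_iff.mpr fun c _ => mem_gen.mpr ⟨⟨⊤, isAffineOpen_top _⟩, ?_, trivial⟩
  exact top_mem_genSet i i.algHom (map_affineAlgebra _ i.a i.mem)

/-- Ring maps out of the affine blow-up algebra are determined by the base. -/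
lemma algHom_ext {A B : Type u} [CommRing A] [CommRing B] {I : Ideal A} {a : A}
    (κ₁ κ₂ : BlowUp.affineAlgebra A I a →+* B)
    (h : κ₁.comp (algebraMap A _) = κ₂.comp (algebraMap A _))
    (ha : κ₁ (algebraMap A _ a) ∈ B⁰) : κ₁ = κ₂ := by
  refine RingHom.ext fun c => ?_
  obtain ⟨x, ⟨_, n, rfl⟩, hx⟩ := IsLocalization.exists_mk'_eq (Submonoid.powers a) (c : Localization.Away a)
  have hc : algebraMap A (BlowUp.affineAlgebra A I a) (a ^ n) * c = algebraMap A _ x := Subtype.ext (by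
    show algebraMap A (Localization.Away a) (a ^ n) * (c : Localization.Away a) = algebraMap A _ x
    rw [← hx]
    exact IsLocalization.mk'_spec' (Localization.Away a) x (⟨a ^ n, n, rfl⟩ : Submonoid.powers a))
  have h1 := congrArg κ₁ hc
  have h2 := congrArg κ₂ hc
  rw [map_mul] at h1 h2
  have ea : ∀ z, κ₁ (algebraMap A _ z) = κ₂ (algebraMap A _ z) := fun z => RingHom.congr_fun h z
  rw [← ea, ← ea] at h2
  refine (mul_cancel_left_mem_nonZeroDivisors (show κ₁ (algebraMap A _ (a ^ n)) ∈ B⁰ from ?_)).mp (h1.trans h2.symm)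
  rw [map_pow, map_pow]
  exact pow_mem ha n

lemma hom_chart_local {i : Idx Z} {g : W ⟶ X} {T : W.affineOpens} (hT : T ∈ genSet g i)
    (h₁ : Spec Γ(W, T.1) ⟶ i.chart) (e₁ : h₁ ≫ i.f = T.2.fromSpec ≫ g) :
    ∃ κ : i.alg →+* Γ(W, T.1), h₁ = Spec.map (CommRingCat.ofHom κ) ∧
      κ.comp (algebraMap Γ(X, i.V.1) i.alg) = (g.appLE i.V.1 T.1 hT.1).hom := by
  obtain ⟨φ, rfl⟩ := Spec.map_surjective h₁
  refine ⟨φ.hom, by rw [CommRingCat.ofHom_hom], ?_⟩
  have := i.V.2.isOpenImmersion_fromSpec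
  have : Spec.map (i.algHom ≫ φ) = Spec.map (g.appLE i.V.1 T.1 hT.1) := by
    rw [← cancel_mono i.V.2.fromSpec, IsAffineOpen.SpecMap_appLE_fromSpec g i.V.2 T.2 hT.1, Spec.map_comp,
      Category.assoc]
    exact e₁
  exact congrArg CommRingCat.Hom.hom (Spec.map_injective this)

/-- Morphisms into a chart are determined by the composite to the base. -/
theorem chart_hom_ext {i : Idx Z} (g : W ⟶ X) (hg : BlowUp.IsEffCartierIdeal (Z.comap g))
    {h₁ h₂ : W ⟶ i.chart} (e₁ : h₁ ≫ i.f = g) (e₂ : h₂ ≫ i.f = g) : h₁ = h₂ := by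
  have htop : Gen g i = ⊤ := by
    rw [← e₁, ← gen_preimage i.ec h₁ (e₁.symm ▸ hg), i.gen_f]
    try rfl
  let 𝒰 := W.openCoverOfIsOpenCover (fun T : genSet g i => T.1.1) htop
  refine 𝒰.hom_ext _ _ fun T => ?_
  change T.1.1.ι ≫ h₁ = T.1.1.ι ≫ h₂
  rw [← T.1.2.isoSpec_hom_fromSpec, Category.assoc, Category.assoc]
  congr 1
  obtain ⟨κ₁, hκ₁, c₁⟩ := hom_chart_local T.2 (T.1.2.fromSpec ≫ h₁) (by rw [Category.assoc, e₁])
  obtain ⟨κ₂, hκ₂, c₂⟩ := hom_chart_local T.2 (T.1.2.fromSpec ≫ h₂) (by rw [Category.assoc, e₂])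
  rw [hκ₁, hκ₂, algHom_ext κ₁ κ₂ (c₁.trans c₂.symm) ?_]
  obtain ⟨hle, hid⟩ := T.2
  rw [show κ₁ (algebraMap _ _ i.a) = (g.appLE i.V.1 T.1.1 hle).hom i.a from RingHom.congr_fun c₁ i.a]
  exact nzd_of_ec hg hid

/-- Existence of lifts to a chart. -/
theorem exists_chart_lift {i : Idx Z} (g : W ⟶ X) (hg : BlowUp.IsEffCartierIdeal (Z.comap g))
    (htop : Gen g i = ⊤) : ∃ h : W ⟶ i.chart, h ≫ i.f = g := by
  let 𝒰 := W.openCoverOfIsOpenCover (fun T : genSet g i => T.1.1) htop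
  have key : ∀ T : genSet g i, ∃ k : (T.1.1 : Scheme.{u}) ⟶ i.chart, k ≫ i.f = T.1.1.ι ≫ g := by
    intro T
    obtain ⟨hle, hid⟩ := T.2
    obtain ⟨κ, hκ⟩ := exists_hom_affineAlgebra (Z.ideal i.V) i.a (g.appLE i.V.1 T.1.1 hle).hom (nzd_of_ec hg hid)
      fun x hx => by
        refine Ideal.mem_span_singleton.mp ?_
        rw [← hid, IdealComap.ideal_comap Z g T.1 i.V hle]
        exact Ideal.mem_map_of_mem _ hx
    let hT : IsAffineOpen T.1.1 := T.1.2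
    refine ⟨hT.isoSpec.hom ≫ Spec.map (CommRingCat.ofHom κ), ?_⟩
    rw [← hT.isoSpec_hom_fromSpec, Category.assoc, Category.assoc]
    congr 1
    show Spec.map (CommRingCat.ofHom κ) ≫ Spec.map i.algHom ≫ i.V.2.fromSpec = _
    rw [← Spec.map_comp_assoc, ← IsAffineOpen.SpecMap_appLE_fromSpec g i.V.2 T.1.2 hle]
    congr 2
    exact CommRingCat.hom_ext hκ
  choose k hk using key
  refine ⟨𝒰.glueMorphisms k fun a b => ?_, 𝒰.hom_ext _ _ fun T => ?_⟩
  · refine chart_hom_ext ((pullback.fst (𝒰.f a) (𝒰.f b) ≫ 𝒰.f a) ≫ g)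
      (by rw [Scheme.IdealSheafData.comap_comp]; exact ec_comap_flat hg _) ?_ ?_
    · exact (Category.assoc _ _ _).trans ((congrArg (pullback.fst (𝒰.f a) (𝒰.f b) ≫ ·) (hk a)).trans
        (Category.assoc _ _ _).symm)
    · exact (Category.assoc _ _ _).trans ((congrArg (pullback.snd (𝒰.f a) (𝒰.f b) ≫ ·) (hk b)).trans
        ((Category.assoc _ _ _).symm.trans (congrArg (· ≫ g) pullback.condition.symm)))
  · exact (Category.assoc _ _ _).symm.trans
      ((congrArg (· ≫ i.f) (Scheme.Cover.ι_glueMorphisms 𝒰 (fun T => k T) _ T)).trans (hk T))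

end Groth.Agent.BlowUpLib
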