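import Groth.Agent.BlowUpLib.Chart
import Mathlib.AlgebraicGeometry.Gluing

/-!
# Existence of blow-ups
-/

universe u

open CategoryTheory CategoryTheory.Limits AlgebraicGeometry TopologicalSpace
open scoped nonZeroDivisors

namespace Groth.Agent.BlowUpLib

open Groth.Agent.ModPairBasic

variable {X W : Scheme.{u}} (Z : X.IdealSheafData)

variable {Z}

lemma ec_of_flat_comp {g : W ⟶ X} (hg : BlowUp.IsEffCartierIdeal (Z.comap g)) {P : Scheme.{u}} (p : P ⟶ W)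
    [Flat p] : BlowUp.IsEffCartierIdeal (Z.comap (p ≫ g)) := by
  rw [Scheme.IdealSheafData.comap_comp]; exact ec_comap_flat hg p

/-- The overlap in the `i`-th chart. -/
noncomputable abbrev Idx.ov (i j : Idx Z) : i.chart.Opens := Gen i.f j

lemma Idx.ov_ec (i j : Idx Z) : BlowUp.IsEffCartierIdeal (Z.comap ((i.ov j).ι ≫ i.f)) :=
  ec_of_flat_comp i.ec _

lemma Idx.gen_ov (i j : Idx Z) : Gen ((i.ov j).ι ≫ i.f) j = ⊤ := by
  rw [← gen_preimage i.ec _ (i.ov_ec j)]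
  exact Scheme.Opens.ι_preimage_self _

/-- A morphism into an overlap is given by a morphism into the chart with the right composite to the base. -/
lemma mem_ov_of_gen {i j : Idx Z} (h : W ⟶ i.chart) (hh : BlowUp.IsEffCartierIdeal (Z.comap (h ≫ i.f)))
    (hj : Gen (h ≫ i.f) j = ⊤) : Set.range h ⊆ Set.range (i.ov j).ι := by
  rw [Scheme.Opens.range_ι]
  rintro _ ⟨w, rfl⟩
  have h1 : w ∈ h ⁻¹ᵁ Gen i.f j := by rw [gen_preimage i.ec h hh, hj]; trivial
  exact h1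

noncomputable def Idx.trans (i j : Idx Z) : (i.ov j : Scheme.{u}) ⟶ j.chart :=
  (exists_chart_lift _ (i.ov_ec j) (i.gen_ov j)).choose

lemma Idx.trans_f (i j : Idx Z) : i.trans j ≫ j.f = (i.ov j).ι ≫ i.f :=
  (exists_chart_lift _ (i.ov_ec j) (i.gen_ov j)).choose_spec

lemma Idx.trans_range (i j : Idx Z) : Set.range (i.trans j) ⊆ Set.range (j.ov i).ι := by
  refine mem_ov_of_gen _ (by rw [i.trans_f]; exact i.ov_ec j) ?_
  rw [i.trans_f, ← gen_preimage i.ec _ (i.ov_ec j), i.gen_f]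
  rfl

noncomputable def Idx.t (i j : Idx Z) : (i.ov j : Scheme.{u}) ⟶ (j.ov i : Scheme.{u}) :=
  IsOpenImmersion.lift (j.ov i).ι (i.trans j) (i.trans_range j)

lemma Idx.t_ι (i j : Idx Z) : i.t j ≫ (j.ov i).ι = i.trans j := IsOpenImmersion.lift_fac _ _ _

lemma Idx.t_ι_f (i j : Idx Z) : i.t j ≫ (j.ov i).ι ≫ j.f = (i.ov j).ι ≫ i.f := by
  rw [← Category.assoc, i.t_ι, i.trans_f]

lemma Idx.ovι_iso (i : Idx Z) : IsIso (i.ov i).ι := by
  refine (isIso_iff_isOpenImmersion_and_surjective _).mpr ⟨inferInstance, ⟨fun x => ⟨⟨x, ?_⟩, rfl⟩⟩⟩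
  show x ∈ Gen i.f i
  rw [i.gen_f]; trivial

lemma range_pullback_ov (i j k : Idx Z) :
    Set.range ((pullback.fst (i.ov j).ι (i.ov k).ι ≫ i.t j) ≫ (j.ov i).ι) ⊆ Set.range (j.ov k).ι := by
  have e : ((pullback.fst (i.ov j).ι (i.ov k).ι ≫ i.t j) ≫ (j.ov i).ι) ≫ j.f =
      pullback.snd (i.ov j).ι (i.ov k).ι ≫ ((i.ov k).ι ≫ i.f) := by
    rw [Category.assoc, Category.assoc, i.t_ι_f, ← Category.assoc, pullback.condition, Category.assoc]
  refine mem_ov_of_gen _ (by rw [e]; exact ec_of_flat_comp (i.ov_ec k) _) ?_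
  rw [e, ← gen_preimage (i.ov_ec k) _ (ec_of_flat_comp (i.ov_ec k) _), i.gen_ov]
  rfl

noncomputable def t' (i j k : Idx Z) :
    pullback (i.ov j).ι (i.ov k).ι ⟶ pullback (j.ov k).ι (j.ov i).ι :=
  pullback.lift (IsOpenImmersion.lift (j.ov k).ι _ (range_pullback_ov i j k))
    (pullback.fst _ _ ≫ i.t j) (IsOpenImmersion.lift_fac _ _ _)

lemma t'_snd (i j k : Idx Z) : t' i j k ≫ pullback.snd _ _ = pullback.fst _ _ ≫ i.t j :=
  pullback.lift_snd _ _ _

lemma t'_f (i j k : Idx Z) : t' i j k ≫ pullback.fst _ _ ≫ (j.ov k).ι ≫ j.f =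
    pullback.fst _ _ ≫ (i.ov j).ι ≫ i.f := by
  rw [← Category.assoc (pullback.fst (j.ov k).ι (j.ov i).ι), pullback.condition, Category.assoc,
    reassoc_of% (t'_snd i j k), i.t_ι_f]

/-- The gluing data of the charts. -/
noncomputable def glueData (Z : X.IdealSheafData) : Scheme.GlueData.{u} where
  J := Idx Z
  U := fun i => i.chart
  V := fun p => (p.1.ov p.2 : Scheme.{u})
  f := fun i j => (i.ov j).ι
  f_id := fun i => i.ovι_iso
  t := fun i j => i.t j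
  t_id := fun i => by
    rw [← cancel_mono (i.ov i).ι, Category.id_comp]
    exact chart_hom_ext _ (i.ov_ec i) (by rw [Category.assoc, i.t_ι_f]) rfl
  t' := t'
  t_fac := fun i j k => t'_snd i j k
  cocycle := fun i j k => by
    rw [← cancel_mono (pullback.fst (i.ov j).ι (i.ov k).ι), ← cancel_mono (i.ov j).ι, Category.id_comp]
    refine chart_hom_ext _ (ec_of_flat_comp (i.ov_ec j) (pullback.fst (i.ov j).ι (i.ov k).ι)) ?_ ?_
    · simp only [Category.assoc]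
      rw [t'_f, t'_f, t'_f]
    · rw [Category.assoc]
  f_open := fun i j => inferInstance

/-- The blow-up. -/
noncomputable def blowUp (Z : X.IdealSheafData) : Scheme.{u} := (glueData Z).glued

noncomputable def Idx.ι (i : Idx Z) : i.chart ⟶ blowUp Z := (glueData Z).ι i

instance (i : Idx Z) : IsOpenImmersion i.ι := (glueData Z).openCover.map_prop i

lemma Idx.glue (i j : Idx Z) : i.t j ≫ (j.ov i).ι ≫ j.ι = (i.ov j).ι ≫ i.ι := (glueData Z).glue_condition i j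

lemma Idx.ι_jointly_surjective (y : blowUp Z) : ∃ (i : Idx Z) (c : i.chart), i.ι c = y :=
  (glueData Z).ι_jointly_surjective y

/-- The structure morphism of the blow-up. -/
noncomputable def blowUpπ (Z : X.IdealSheafData) : blowUp Z ⟶ X :=
  Multicoequalizer.desc _ _ (fun i : Idx Z => i.f) fun p => by
    obtain ⟨a, b⟩ := p
    exact ((Category.assoc _ _ _).trans (Idx.t_ι_f a b)).symm

lemma Idx.ι_π (i : Idx Z) : i.ι ≫ blowUpπ Z = i.f := Multicoequalizer.π_desc _ _ _ _ _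

lemma blowUpπ_ec (Z : X.IdealSheafData) : BlowUp.IsEffCartierIdeal (Z.comap (blowUpπ Z)) := by
  refine ec_of_openCover _ fun y => ?_
  obtain ⟨i, c, rfl⟩ := Idx.ι_jointly_surjective y
  exact ⟨i.chart, i.ι, inferInstance, ⟨c, rfl⟩, by rw [← Scheme.IdealSheafData.comap_comp, i.ι_π]; exact i.ec⟩

lemma Idx.opensRange_ι (i : Idx Z) : i.ι.opensRange = Gen (blowUpπ Z) i := by
  ext y
  obtain ⟨j, c, rfl⟩ := Idx.ι_jointly_surjective y
  have h : c ∈ j.ι ⁻¹ᵁ Gen (blowUpπ Z) i ↔ c ∈ j.ov i := by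
    rw [gen_preimage (blowUpπ_ec Z) j.ι (by rw [j.ι_π]; exact j.ec), j.ι_π]
  refine Iff.trans ⟨?_, ?_⟩ h.symm
  · rintro ⟨d, hd⟩
    obtain ⟨z, hz, -⟩ := ((glueData Z).ι_eq_iff j i c d).mp hd.symm
    have hz' : (j.ov i).ι z = c := hz
    exact hz' ▸ (z : (j.ov i).toScheme).2
  · intro hc
    let c' : (j.ov i).toScheme := ⟨c, hc⟩
    refine ⟨(j.t i ≫ (i.ov j).ι) c', ?_⟩
    show i.ι ((j.t i ≫ (i.ov j).ι) c') = j.ι c
    rw [← Scheme.Hom.comp_apply, Category.assoc, j.glue i, Scheme.Hom.comp_apply]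
    rfl

lemma Idx.unique_lift {g : W ⟶ X} (hg : BlowUp.IsEffCartierIdeal (Z.comap g)) (i : Idx Z) (h : W ⟶ blowUp Z)
    (hh : h ≫ blowUpπ Z = g) (k : (Gen g i : Scheme.{u}) ⟶ i.chart) (hk : k ≫ i.f = (Gen g i).ι ≫ g) :
    (Gen g i).ι ≫ h = k ≫ i.ι := by
  have hsub : Set.range ((Gen g i).ι ≫ h) ⊆ Set.range i.ι := by
    rintro _ ⟨w, rfl⟩
    show h w.1 ∈ i.ι.opensRange
    rw [i.opensRange_ι]
    have : w.1 ∈ h ⁻¹ᵁ Gen (blowUpπ Z) i := by
      rw [gen_preimage (blowUpπ_ec Z) h (hh.symm ▸ hg), hh]; exact w.2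
    exact this
  rw [← IsOpenImmersion.lift_fac i.ι ((Gen g i).ι ≫ h) hsub]
  congr 1
  refine chart_hom_ext _ (ec_of_flat_comp hg _) ?_ hk
  rw [← i.ι_π, ← Category.assoc, IsOpenImmersion.lift_fac, Category.assoc, hh]

theorem isBlowUp_blowUp (Z : X.IdealSheafData) : BlowUp.IsBlowUp (blowUpπ Z) Z := by
  refine ⟨blowUpπ_ec Z, fun W g hg => ?_⟩
  have hcov : ⨆ i : Idx Z, Gen g i = ⊤ := eq_top_iff.mpr fun w _ => by
    obtain ⟨_, ⟨V, hV, rfl⟩, hwV, -⟩ := X.isBasis_affineOpens.exists_subset_of_mem_open (Set.mem_univ (g w)) isOpen_univ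
    obtain ⟨i, -, hw⟩ := exists_gen hg ⟨V, hV⟩ hwV
    exact Opens.mem_iSup.mpr ⟨i, hw⟩
  let 𝒰 := W.openCoverOfIsOpenCover (fun i : Idx Z => Gen g i) hcov
  have hec : ∀ i : Idx Z, BlowUp.IsEffCartierIdeal (Z.comap ((Gen g i).ι ≫ g)) := fun i => ec_of_flat_comp hg _
  have key : ∀ i : Idx Z, ∃ k : (Gen g i : Scheme.{u}) ⟶ i.chart, k ≫ i.f = (Gen g i).ι ≫ g := fun i =>
    exists_chart_lift _ (hec i) (by rw [← gen_preimage hg _ (hec i)]; exact Scheme.Opens.ι_preimage_self _)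
  choose k hk using key
  have compat : ∀ (i j : Idx Z), pullback.fst (Gen g i).ι (Gen g j).ι ≫ k i ≫ i.ι =
      pullback.snd (Gen g i).ι (Gen g j).ι ≫ k j ≫ j.ι := by
    intro i j
    have e : (pullback.fst (Gen g i).ι (Gen g j).ι ≫ k i) ≫ i.f =
        pullback.snd (Gen g i).ι (Gen g j).ι ≫ ((Gen g j).ι ≫ g) := by
      rw [Category.assoc, hk, ← Category.assoc, pullback.condition, Category.assoc]
    have hsub : Set.range (pullback.fst (Gen g i).ι (Gen g j).ι ≫ k i) ⊆ Set.range (i.ov j).ι := by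
      refine mem_ov_of_gen _ (by rw [e]; exact ec_of_flat_comp (hec j) _) ?_
      rw [e, ← gen_preimage (hec j) _ (ec_of_flat_comp (hec j) _), ← gen_preimage hg _ (hec j),
        Scheme.Opens.ι_preimage_self]
      rfl
    let a := IsOpenImmersion.lift (i.ov j).ι _ hsub
    have ha : a ≫ (i.ov j).ι = pullback.fst (Gen g i).ι (Gen g j).ι ≫ k i := IsOpenImmersion.lift_fac _ _ _
    have hb : (a ≫ i.t j) ≫ (j.ov i).ι = pullback.snd (Gen g i).ι (Gen g j).ι ≫ k j := by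
      refine chart_hom_ext _ (ec_of_flat_comp (hec j) (pullback.snd (Gen g i).ι (Gen g j).ι)) ?_ ?_
      · rw [Category.assoc, Category.assoc, i.t_ι_f, reassoc_of% ha, ← Category.assoc, e]
      · rw [Category.assoc, hk]
    rw [← Category.assoc, ← ha, ← Category.assoc, ← hb, Category.assoc, Category.assoc, Category.assoc, i.glue]
  refine ⟨𝒰.glueMorphisms (fun i => k i ≫ i.ι) compat, 𝒰.hom_ext _ _ fun i => ?_, fun h hh => 𝒰.hom_ext _ _ fun i => ?_⟩
  · refine (Category.assoc _ _ _).symm.trans ((congrArg (· ≫ blowUpπ Z)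
      (Scheme.Cover.ι_glueMorphisms 𝒰 (fun i => k i ≫ i.ι) compat i)).trans ?_)
    exact (Category.assoc _ _ _).trans ((congrArg (k i ≫ ·) i.ι_π).trans (hk i))
  · refine Eq.trans ?_ (Scheme.Cover.ι_glueMorphisms 𝒰 (fun i => k i ≫ i.ι) compat i).symm
    exact Idx.unique_lift hg i h hh (k i) (hk i)

theorem exists_isBlowUp (Z : X.IdealSheafData) : ∃ (Y : Scheme.{u}) (π : Y ⟶ X), BlowUp.IsBlowUp π Z :=
  ⟨_, _, isBlowUp_blowUp Z⟩

/-- Blow-ups are unique. -/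
lemma isBlowUp_unique {Y Y' : Scheme.{u}} {π : Y ⟶ X} {π' : Y' ⟶ X} (h : BlowUp.IsBlowUp π Z)
    (h' : BlowUp.IsBlowUp π' Z) : ∃ e : Y ≅ Y', e.hom ≫ π' = π := by
  obtain ⟨u, hu, -⟩ := h'.2 Y π h.1
  obtain ⟨v, hv, -⟩ := h.2 Y' π' h'.1
  obtain ⟨a, -, ha⟩ := h.2 Y π h.1
  obtain ⟨b, -, hb⟩ := h'.2 Y' π' h'.1
  exact ⟨⟨u, v, (ha _ (show (u ≫ v) ≫ π = π by rw [Category.assoc, hv, hu])).trans (ha _ (Category.id_comp _)).symm,
    (hb _ (show (v ≫ u) ≫ π' = π' by rw [Category.assoc, hu, hv])).trans (hb _ (Category.id_comp _)).symm⟩, hu⟩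

end Groth.Agent.BlowUpLib
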