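import Groth.Agent.BlowUpLib.Glue
import Groth.Agent.S9347
import Mathlib.RingTheory.LocalProperties.Reduced

/-!
# First properties of blow-ups
-/

universe u

open CategoryTheory CategoryTheory.Limits AlgebraicGeometry TopologicalSpace
open scoped nonZeroDivisors

namespace Groth.Agent.BlowUpLib

open Groth.Agent.ModPairBasic

variable {X Y W : Scheme.{u}} {Z : X.IdealSheafData}

lemma ec_top : BlowUp.IsEffCartierIdeal (⊤ : X.IdealSheafData) := fun x => by
  obtain ⟨_, ⟨U, hU, rfl⟩, hx, -⟩ := X.isBasis_affineOpens.exists_subset_of_mem_open (Set.mem_univ x) isOpen_univ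
  exact ⟨⟨U, hU⟩, hx, 1, one_mem _, by rw [Ideal.span_singleton_one]; rfl⟩

lemma comap_eq_top_of_range {g : W ⟶ X} (h : ∀ w, g w ∉ Z.support) : Z.comap g = ⊤ := by
  rw [← Scheme.IdealSheafData.support_eq_bot_iff]
  refine SetLike.coe_injective (Set.eq_empty_iff_forall_notMem.mpr fun w hw => h w ?_)
  rw [Scheme.IdealSheafData.support_comap] at hw
  exact hw

/-- A blow-up is an isomorphism away from its centre. -/
theorem isIso_restrict {b : Y ⟶ X} (hb : BlowUp.IsBlowUp b Z) (U : X.Opens) (hU : ∀ x ∈ U, x ∉ Z.support) :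
    IsIso (b ∣_ U) := by
  have hec : ∀ {P : Scheme.{u}} (p : P ⟶ X), (∀ w, p w ∈ U) → BlowUp.IsEffCartierIdeal (Z.comap p) := fun p hp => by
    rw [comap_eq_top_of_range fun w => hU _ (hp w)]; exact ec_top
  obtain ⟨s, hs, -⟩ := hb.2 _ U.ι (hec U.ι fun w => w.2)
  have hsub : Set.range s ⊆ Set.range (b ⁻¹ᵁ U).ι := by
    rw [Scheme.Opens.range_ι]
    rintro _ ⟨w, rfl⟩
    show b (s w) ∈ U
    rw [← Scheme.Hom.comp_apply, hs]
    exact w.2
  let s' := IsOpenImmersion.lift (b ⁻¹ᵁ U).ι s hsub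
  have hs' : s' ≫ (b ⁻¹ᵁ U).ι = s := IsOpenImmersion.lift_fac _ _ _
  refine ⟨s', ?_, ?_⟩
  · obtain ⟨m, -, hm⟩ := hb.2 _ ((b ⁻¹ᵁ U).ι ≫ b) (hec _ fun w => w.2)
    rw [← cancel_mono (b ⁻¹ᵁ U).ι, Category.assoc, hs', Category.id_comp]
    exact (hm _ (show ((b ∣_ U) ≫ s) ≫ b = _ by rw [Category.assoc, hs, morphismRestrict_ι])).trans (hm _ rfl).symm
  · rw [← cancel_mono U.ι, Category.assoc, morphismRestrict_ι, reassoc_of% hs', hs, Category.id_comp]

/-- Flat base change. -/
theorem isBlowUp_pullback {X₁ : Scheme.{u}} (g : X₁ ⟶ X) [Flat g] {b : Y ⟶ X} (hb : BlowUp.IsBlowUp b Z) :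
    BlowUp.IsBlowUp (pullback.fst g b) (Z.comap g) := by
  refine ⟨?_, fun W h hW => ?_⟩
  · rw [← Scheme.IdealSheafData.comap_comp, pullback.condition, Scheme.IdealSheafData.comap_comp]
    exact ec_comap_flat hb.1 _
  · rw [← Scheme.IdealSheafData.comap_comp] at hW
    obtain ⟨k, hk, huniq⟩ := hb.2 W (h ≫ g) hW
    refine ⟨pullback.lift h k hk.symm, pullback.lift_fst _ _ _, fun m hm => ?_⟩
    apply pullback.hom_ext
    · rw [pullback.lift_fst]; exact hm
    · rw [pullback.lift_snd]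
      refine huniq _ ?_
      show (m ≫ pullback.snd g b) ≫ b = h ≫ g
      rw [Category.assoc, ← pullback.condition, ← Category.assoc, hm]

/-- Restriction to an open of the base. -/
theorem isBlowUp_restrict (V : X.Opens) {b : Y ⟶ X} (hb : BlowUp.IsBlowUp b Z) :
    BlowUp.IsBlowUp (b ∣_ V) (Z.comap V.ι) := by
  refine ⟨?_, fun W h hW => ?_⟩
  · rw [← Scheme.IdealSheafData.comap_comp, morphismRestrict_ι, Scheme.IdealSheafData.comap_comp]
    exact ec_comap_flat hb.1 _
  · rw [← Scheme.IdealSheafData.comap_comp] at hW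
    obtain ⟨k, hk, huniq⟩ := hb.2 W (h ≫ V.ι) hW
    have hsub : Set.range k ⊆ Set.range (b ⁻¹ᵁ V).ι := by
      rw [Scheme.Opens.range_ι]
      rintro _ ⟨w, rfl⟩
      show b (k w) ∈ V
      rw [← Scheme.Hom.comp_apply, hk]
      exact (h w).2
    have hk' := IsOpenImmersion.lift_fac (b ⁻¹ᵁ V).ι k hsub
    refine ⟨IsOpenImmersion.lift (b ⁻¹ᵁ V).ι k hsub, ?_, fun m hm => ?_⟩
    · show _ ≫ (b ∣_ V) = h
      rw [← cancel_mono V.ι, Category.assoc, morphismRestrict_ι, reassoc_of% hk', hk]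
    · rw [← cancel_mono (b ⁻¹ᵁ V).ι, hk']
      refine huniq _ ?_
      show (m ≫ (b ⁻¹ᵁ V).ι) ≫ b = h ≫ V.ι
      rw [Category.assoc, ← morphismRestrict_ι, ← Category.assoc, hm]

/-- Composition of blow-ups. -/
theorem isBlowUp_comp {X'' : Scheme.{u}} {J : X.IdealSheafData} {b : Y ⟶ X} (hb : BlowUp.IsBlowUp b Z)
    {b' : X'' ⟶ Y} (hb' : BlowUp.IsBlowUp b' (J.comap b)) : BlowUp.IsBlowUp (b' ≫ b) (Z * J) := by
  refine ⟨?_, fun W g hg => ?_⟩
  · rw [comap_mul, Scheme.IdealSheafData.comap_comp, Scheme.IdealSheafData.comap_comp]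
    exact ec_mul (ec_comap_of_isBlowUp hb' hb.1) hb'.1
  · rw [comap_mul] at hg
    obtain ⟨k, hk, hku⟩ := hb.2 W g (ec_of_mul hg)
    have hJ : BlowUp.IsEffCartierIdeal ((J.comap b).comap k) := by
      rw [← Scheme.IdealSheafData.comap_comp, hk]
      exact ec_of_mul (mul_comm (Z.comap g) (J.comap g) ▸ hg)
    obtain ⟨m, hm, hmu⟩ := hb'.2 W k hJ
    refine ⟨m, show m ≫ b' ≫ b = g by rw [← Category.assoc, hm, hk], fun n hn => hmu n (hku _ ?_)⟩
    show (n ≫ b') ≫ b = g
    rw [Category.assoc]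
    exact hn

/-- Blow-ups of reduced schemes are reduced. -/
theorem isReduced_blowUp [IsReduced X] {b : Y ⟶ X} (hb : BlowUp.IsBlowUp b Z) : IsReduced Y := by
  obtain ⟨e, -⟩ := isBlowUp_unique hb (isBlowUp_blowUp Z)
  have : IsReduced (blowUp Z) := by
    have : ∀ i : (glueData Z).openCover.I₀, IsReduced ((glueData Z).openCover.X i) := fun (i : Idx Z) => by
      show IsReduced (Spec (CommRingCat.of i.alg))
      have : _root_.IsReduced (Localization.Away i.a) :=
        inferInstanceAs (_root_.IsReduced (Localization (Submonoid.powers i.a)))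
      have : _root_.IsReduced i.alg := isReduced_of_injective
        (BlowUp.affineAlgebra Γ(X, i.V.1) (Z.ideal i.V) i.a).val Subtype.val_injective
      have : _root_.IsReduced (CommRingCat.of i.alg) := this
      infer_instance
    exact IsReduced.of_openCover _ (glueData Z).openCover
  exact isReduced_of_isOpenImmersion e.hom

/-- A divisor avoids maximal points. -/
lemma not_mem_support_of_maximal {D : X.IdealSheafData} (hD : BlowUp.IsEffCartierIdeal D) {x : X}
    (hx : ∀ y : X, y ⤳ x → y = x) : x ∉ D.support := by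
  have := dense_of_ec hD
  have := quasiCompact_interior_ι (isLocPrincipal_of_ec hD)
  obtain ⟨u, hu⟩ := Groth.Agent.S9347.exists_specializes_of_mem_closure_range (ModPair.interior D).ι x
    ((ModPair.interior D).ι.denseRange x)
  have h2 : (u.1 : X) = x := hx u.1 hu
  exact h2 ▸ u.2

end Groth.Agent.BlowUpLib
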